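import Groth.Agent.CIFlatLib.KoszulFibre
import Groth.Agent.CancelLib.Mor

/-!
# The Koszul locus of a map of flat families commutes with base change
-/

set_option autoImplicit false
set_option linter.style.haveILetI false
set_option backward.isDefEq.respectTransparency false
set_option maxHeartbeats 1000000

universe u

open CategoryTheory CategoryTheory.Limits AlgebraicGeometry IsLocalRing
open scoped TensorProduct

namespace Groth.Agent.CIFlatLib

theorem surjective_and_ker_of_isPushout {P P' B B' : Type u} [CommRing P] [CommRing P'] [CommRing B] [CommRing B']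
    [Algebra P P'] [Algebra P B] [Algebra P' B'] [Algebra B B'] [Algebra P B'] [IsScalarTower P P' B']
    [IsScalarTower P B B'] [Algebra.IsPushout P P' B B'] (hs : Function.Surjective (algebraMap P B)) :
    Function.Surjective (algebraMap P' B') ∧
      RingHom.ker (algebraMap P' B') = (RingHom.ker (algebraMap P B)).map (algebraMap P P') := by
  let e := Algebra.IsPushout.equiv P P' B B'
  let g : P' ⊗[P] P →ₐ[P] P' ⊗[P] B := Algebra.TensorProduct.map (AlgHom.id P P') (Algebra.ofId P B)
  let r := (Algebra.TensorProduct.rid P P P').symm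
  have he : ∀ x, e (g (r x)) = algebraMap P' B' x := fun x => by
    show e (x ⊗ₜ[P] algebraMap P B 1) = _
    rw [Algebra.IsPushout.equiv_tmul, map_one, map_one, mul_one]
  have hgs : Function.Surjective g := TensorProduct.map_surjective Function.surjective_id hs
  refine ⟨fun y => ?_, ?_⟩
  · obtain ⟨z, hz⟩ := e.surjective y
    obtain ⟨w, rfl⟩ := hgs z
    exact ⟨r.symm w, by rw [← he, r.apply_symm_apply, hz]⟩
  · have hk : RingHom.ker (algebraMap P' B') = (RingHom.ker g).comap r := by
      ext x
      rw [RingHom.mem_ker, ← he, map_eq_zero_iff _ e.injective, Ideal.mem_comap, RingHom.mem_ker]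
    rw [hk, Algebra.TensorProduct.lTensor_ker (Algebra.ofId P B) hs]
    show Ideal.comap r.toRingEquiv _ = _
    rw [← Ideal.map_symm]
    refine (Ideal.map_map (Algebra.TensorProduct.includeRight : P →ₐ[P] P' ⊗[P] P).toRingHom _).trans ?_
    congr 1
    refine RingHom.ext fun x => ?_
    show r.symm ((1 : P') ⊗ₜ[P] x) = algebraMap P P' x
    show Algebra.TensorProduct.rid P P P' ((1 : P') ⊗ₜ[P] x) = _
    rw [Algebra.TensorProduct.rid_tmul, Algebra.algebraMap_eq_smul_one]

theorem exists_flat_comp_includeLeft (K F K' G : Type u) [Field K] [CommRing F] [Field K'] [CommRing G] [Algebra K F]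
    [Algebra K K'] (e : F ⊗[K] K' ≃+* G) :
    ∃ ψ : F →+* G, ψ.Flat ∧ ∀ x, ψ x = e (x ⊗ₜ[K] 1) := by
  refine ⟨e.toRingHom.comp (algebraMap F (F ⊗[K] K')), RingHom.Flat.comp (RingHom.flat_algebraMap_iff.2 inferInstance)
    (RingHom.Flat.of_bijective e.bijective), fun x => rfl⟩

/-- Fibres of a base change, with their flat comparison map. -/
theorem exists_fibreMap {R R' T T' : Type u} [CommRing R] [CommRing R'] [CommRing T] [CommRing T'] [Algebra R R']
    [Algebra R T] [Algebra R' T'] [Algebra R T'] [IsScalarTower R R' T'] [Algebra T T'] [IsScalarTower R T T']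
    [Algebra.IsPushout R R' T T'] (p : Ideal R) [p.IsPrime] (p' : Ideal R') [p'.IsPrime]
    (hp : p'.comap (algebraMap R R') = p) :
    ∃ ψ : p.Fiber T →+* p'.Fiber T', ψ.Flat ∧ ∀ t : T,
      ψ ((Algebra.TensorProduct.includeRight : T →ₐ[R] p.Fiber T) t) =
        (Algebra.TensorProduct.includeRight : T' →ₐ[R'] p'.Fiber T') (algebraMap T T' t) := by
  haveI : p'.LiesOver p := ⟨hp.symm⟩
  let K := p.ResidueField
  let K' := p'.ResidueField
  let e := Algebra.IsPushout.equiv R R' T T'
  letI : Algebra K K' := (Ideal.ResidueField.map p p' (algebraMap R R') hp.symm).toAlgebra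
  haveI : IsScalarTower R K K' := IsScalarTower.of_algebraMap_eq fun r => by
    show algebraMap R K' r = Ideal.ResidueField.map p p' (algebraMap R R') hp.symm (algebraMap R K r)
    rw [Ideal.ResidueField.map_algebraMap, ← IsScalarTower.algebraMap_apply]
  let F := p.Fiber T
  let E₁ : (F ⊗[K] K') ≃+* K' ⊗[K] F := (Algebra.TensorProduct.comm K F K').toRingEquiv
  let E₂ : (K' ⊗[K] F) ≃+* K' ⊗[R] T := (Algebra.TensorProduct.cancelBaseChange R K K' K' T).toRingEquiv
  let E₃ : (K' ⊗[R] T) ≃+* K' ⊗[R'] (R' ⊗[R] T) :=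
    (Algebra.TensorProduct.cancelBaseChange R R' K' K' T).symm.toRingEquiv
  let E₄ : (K' ⊗[R'] (R' ⊗[R] T)) ≃+* p'.Fiber T' :=
    (Algebra.TensorProduct.congr (AlgEquiv.refl : K' ≃ₐ[K'] K') e).toRingEquiv
  let Φ : (F ⊗[K] K') ≃+* p'.Fiber T' := E₁.trans (E₂.trans (E₃.trans E₄))
  obtain ⟨ψ, hψ, hψe⟩ := exists_flat_comp_includeLeft K F K' (p'.Fiber T') Φ
  refine ⟨ψ, hψ, fun t => ?_⟩
  rw [hψe]
  have h3 : (Algebra.TensorProduct.cancelBaseChange R R' K' K' T).symm ((1 : K') ⊗ₜ[R] t) =
      (1 : K') ⊗ₜ[R'] ((1 : R') ⊗ₜ[R] t) := by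
    rw [AlgEquiv.symm_apply_eq, Algebra.TensorProduct.cancelBaseChange_tmul, one_smul]
  show (Algebra.TensorProduct.congr (AlgEquiv.refl : K' ≃ₐ[K'] K') e)
    ((Algebra.TensorProduct.cancelBaseChange R R' K' K' T).symm
    (Algebra.TensorProduct.cancelBaseChange R K K' K' T ((1 : K') ⊗ₜ[K] ((1 : K) ⊗ₜ[R] t)))) = _
  rw [Algebra.TensorProduct.cancelBaseChange_tmul, one_smul, h3]
  show (1 : K') ⊗ₜ[R'] e ((1 : R') ⊗ₜ[R] t) = _
  rw [Algebra.IsPushout.equiv_tmul, map_one, one_mul]
  rfl

/-- Regular ideals of local rings ascend and descend along flat maps. -/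
theorem isRegularIdeal_localization_iff {F F' : Type u} [CommRing F] [IsNoetherianRing F] [CommRing F']
    [IsNoetherianRing F'] (ψ : F →+* F') (hψ : ψ.Flat) (J : Ideal F) (Q' : Ideal F') [Q'.IsPrime]
    (hJ : J ≤ Q'.comap ψ) :
    CInt.IsRegularIdeal (J.map (algebraMap F (Localization.AtPrime (Q'.comap ψ)))) ↔
      CInt.IsRegularIdeal ((J.map ψ).map (algebraMap F' (Localization.AtPrime Q'))) := by
  refine ⟨?_, CancelLib.isRegularIdeal_localization_of_flat ψ hψ J Q' hJ⟩
  rintro ⟨rs, hrs, hrsJ⟩
  letI : Algebra F F' := ψ.toAlgebra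
  haveI : Module.Flat F F' := hψ
  let Q0 := Q'.comap ψ
  letI : Algebra (Localization.AtPrime Q0) (Localization.AtPrime Q') :=
    (Localization.localRingHom Q0 Q' ψ rfl).toAlgebra
  haveI : IsScalarTower F (Localization.AtPrime Q0) (Localization.AtPrime Q') :=
    .of_algebraMap_eq fun x => (IsScalarTower.algebraMap_apply F F' (Localization.AtPrime Q') x).trans
      (Localization.localRingHom_to_map Q0 Q' ψ rfl x).symm
  haveI : Module.Flat F' (Localization.AtPrime Q') := IsLocalization.flat _ Q'.primeCompl
  haveI : Module.Flat F (Localization.AtPrime Q') := Module.Flat.trans F F' _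
  haveI : Module.Flat (Localization.AtPrime Q0) (Localization.AtPrime Q') :=
    (Module.flat_iff_of_isLocalization (Localization.AtPrime Q0) Q0.primeCompl _).2 inferInstance
  have hm : Ideal.ofList (rs.map (algebraMap (Localization.AtPrime Q0) (Localization.AtPrime Q'))) =
      (J.map ψ).map (algebraMap F' (Localization.AtPrime Q')) := by
    rw [← Ideal.map_ofList, hrsJ, Ideal.map_map, Ideal.map_map, ← IsScalarTower.algebraMap_eq]
    congr 1
  refine ⟨_, ⟨RingTheory.Sequence.IsWeaklyRegular.of_flat hrs.toIsWeaklyRegular, fun h => ?_⟩, hm⟩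
  rw [smul_eq_mul, Ideal.mul_top, hm] at h
  exact (ne_top_of_le_ne_top (maximalIdeal.isMaximal (Localization.AtPrime Q')).ne_top
    ((Ideal.map_mono (Ideal.map_le_iff_le_comap.2 hJ)).trans (Localization.AtPrime.map_eq_maximalIdeal (I := Q')).le))
    h.symm

/-- Being a complete intersection near a prime commutes with base change, for flat finitely presented algebras. -/
theorem exists_isLCI_away_iff_baseChange {R R' A A' B B' : Type u} [CommRing R] [CommRing R'] [CommRing A]
    [CommRing A'] [CommRing B] [CommRing B'] [Algebra R R'] [Algebra R A] [Algebra R B] [Algebra A B]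
    [IsScalarTower R A B] [Algebra R' A'] [Algebra R' B'] [Algebra A' B'] [IsScalarTower R' A' B']
    [Algebra R A'] [IsScalarTower R R' A'] [Algebra A A'] [IsScalarTower R A A'] [Algebra.IsPushout R R' A A']
    [Algebra R B'] [IsScalarTower R R' B'] [Algebra B B'] [IsScalarTower R B B'] [Algebra.IsPushout R R' B B']
    [Algebra A B'] [IsScalarTower A A' B'] [IsScalarTower A B B']
    [Algebra.FinitePresentation R A] [Module.Flat R A] [Algebra.FinitePresentation R B] [Module.Flat R B]
    (q' : Ideal B') [q'.IsPrime] :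
    (∃ g ∉ q'.comap (algebraMap B B'), LCI.IsLCI A (Localization.Away g)) ↔
      ∃ g ∉ q', LCI.IsLCI A' (Localization.Away g) := by
  haveI : IsScalarTower R A B' := .of_algebraMap_eq fun r => by
    rw [IsScalarTower.algebraMap_apply A B B', ← IsScalarTower.algebraMap_apply R A B, ← IsScalarTower.algebraMap_apply]
  haveI : Algebra.FinitePresentation A B := Algebra.FinitePresentation.of_restrict_scalars_finitePresentation R A B
  haveI : Algebra.FinitePresentation R' A' := Algebra.FinitePresentation.equiv (Algebra.IsPushout.equiv R R' A A')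
  haveI : Algebra.FinitePresentation R' B' := Algebra.FinitePresentation.equiv (Algebra.IsPushout.equiv R R' B B')
  haveI : Module.Flat R' A' := Module.Flat.of_linearEquiv (Algebra.IsPushout.equiv R R' A A').symm.toLinearEquiv
  haveI : Module.Flat R' B' := Module.Flat.of_linearEquiv (Algebra.IsPushout.equiv R R' B B').symm.toLinearEquiv
  obtain ⟨n, φ, hφ⟩ := Algebra.FiniteType.iff_quotient_mvPolynomial''.1
    (inferInstance : Algebra.FiniteType A B)
  let P := MvPolynomial (Fin n) A
  let P' := MvPolynomial (Fin n) A'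
  letI : Algebra P B := φ.toRingHom.toAlgebra
  haveI : IsScalarTower A P B := .of_algebraMap_eq fun a => (φ.commutes a).symm
  haveI : IsScalarTower R P B := .of_algebraMap_eq fun r => by
    rw [IsScalarTower.algebraMap_apply R A P, ← IsScalarTower.algebraMap_apply A P B,
      ← IsScalarTower.algebraMap_apply R A B]
  let φ' : P' →ₐ[A'] B' := MvPolynomial.aeval fun i => algebraMap B B' (φ (MvPolynomial.X i))
  letI : Algebra P' B' := φ'.toRingHom.toAlgebra
  haveI : IsScalarTower A' P' B' := .of_algebraMap_eq fun a => (φ'.commutes a).symm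
  haveI : IsScalarTower R' P' B' := .of_algebraMap_eq fun r => by
    rw [IsScalarTower.algebraMap_apply R' A' P', ← IsScalarTower.algebraMap_apply A' P' B',
      ← IsScalarTower.algebraMap_apply R' A' B']
  letI : Algebra P P' := (MvPolynomial.map (algebraMap A A')).toAlgebra
  haveI : IsScalarTower A P P' := .of_algebraMap_eq fun a => by
    show MvPolynomial.C (algebraMap A A' a) = MvPolynomial.map (algebraMap A A') (MvPolynomial.C a)
    rw [MvPolynomial.map_C]
  haveI : IsScalarTower R P P' := .of_algebraMap_eq fun r => by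
    rw [IsScalarTower.algebraMap_apply R A P, ← IsScalarTower.algebraMap_apply A P P',
      ← IsScalarTower.algebraMap_apply R A P']
  haveI : IsScalarTower R R' P' := .of_algebraMap_eq fun r => by
    rw [IsScalarTower.algebraMap_apply R' A' P', ← IsScalarTower.algebraMap_apply R R' A',
      IsScalarTower.algebraMap_apply R A' P']
  letI : Algebra P B' := ((algebraMap B B').comp (algebraMap P B)).toAlgebra
  haveI : IsScalarTower P B B' := .of_algebraMap_eq' rfl
  haveI : IsScalarTower P P' B' := .of_algebraMap_eq' (by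
    refine MvPolynomial.ringHom_ext (fun a => ?_) (fun i => ?_)
    · show algebraMap B B' (φ (MvPolynomial.C a)) = φ' (MvPolynomial.map (algebraMap A A') (MvPolynomial.C a))
      rw [MvPolynomial.map_C, MvPolynomial.aeval_C, ← MvPolynomial.algebraMap_eq, φ.commutes,
        ← IsScalarTower.algebraMap_apply, ← IsScalarTower.algebraMap_apply]
    · show algebraMap B B' (φ (MvPolynomial.X i)) = φ' (MvPolynomial.map (algebraMap A A') (MvPolynomial.X i))
      rw [MvPolynomial.map_X, MvPolynomial.aeval_X])
  haveI : IsScalarTower R P B' := .of_algebraMap_eq fun r => by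
    rw [IsScalarTower.algebraMap_apply P B B', ← IsScalarTower.algebraMap_apply R P B, ← IsScalarTower.algebraMap_apply]
  haveI : IsScalarTower R P' B' := .of_algebraMap_eq fun r => by
    rw [IsScalarTower.algebraMap_apply R R' P', ← IsScalarTower.algebraMap_apply R' P' B',
      ← IsScalarTower.algebraMap_apply R R' B']
  haveI hAP : Algebra.IsPushout A A' P P' := inferInstance
  haveI : Algebra.IsPushout R A R' A' := Algebra.IsPushout.symm ‹Algebra.IsPushout R R' A A'›
  haveI hRP' : Algebra.IsPushout R P R' P' := (Algebra.IsPushout.comp_iff R A R' A').2 (Algebra.IsPushout.symm hAP)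
  haveI hRP : Algebra.IsPushout R R' P P' := Algebra.IsPushout.symm hRP'
  haveI hPB : Algebra.IsPushout P P' B B' := Algebra.IsPushout.symm
    ((Algebra.IsPushout.comp_iff R P R' P').1 (Algebra.IsPushout.symm ‹Algebra.IsPushout R R' B B'›))
  obtain ⟨hs', hk⟩ := surjective_and_ker_of_isPushout (P' := P') (B' := B') (show Function.Surjective (algebraMap P B) from hφ)
  haveI : Algebra.FinitePresentation R P := Algebra.FinitePresentation.trans R A P
  haveI : Algebra.FinitePresentation R' P' := Algebra.FinitePresentation.trans R' A' P'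
  haveI : Module.Flat R P := Module.Flat.trans R A P
  haveI : Module.Flat R' P' := Module.Flat.trans R' A' P'
  haveI : Algebra.Smooth A P := ⟨inferInstance, inferInstance⟩
  haveI : Algebra.Smooth A' P' := ⟨inferInstance, inferInstance⟩
  let p' := q'.comap (algebraMap R' B')
  let q := q'.comap (algebraMap B B')
  let p := q.comap (algebraMap R B)
  have hp : p'.comap (algebraMap R R') = p := by
    show (q'.comap _).comap _ = (q'.comap _).comap _
    rw [Ideal.comap_comap, Ideal.comap_comap, ← IsScalarTower.algebraMap_eq, ← IsScalarTower.algebraMap_eq]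
  obtain ⟨ψ, hψ, hψι⟩ := exists_fibreMap (T := P) (T' := P') p p' hp
  obtain ⟨Q', hQ'⟩ : ∃ Q' : PrimeSpectrum (p'.Fiber P'),
      Q'.asIdeal.comap (Algebra.TensorProduct.includeRight : P' →ₐ[R'] p'.Fiber P').toRingHom =
        q'.comap (algebraMap P' B') := by
    have hh : (⟨q'.comap (algebraMap P' B'), inferInstance⟩ : PrimeSpectrum P') ∈
        PrimeSpectrum.comap (algebraMap R' P') ⁻¹' {⟨p', inferInstance⟩} := by
      refine PrimeSpectrum.ext ?_
      show (q'.comap (algebraMap P' B')).comap (algebraMap R' P') = q'.comap (algebraMap R' B')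
      rw [Ideal.comap_comap, ← IsScalarTower.algebraMap_eq]
    exact ⟨PrimeSpectrum.preimageEquivFiber R' P' ⟨p', inferInstance⟩ ⟨_, hh⟩,
      congrArg (fun z => z.1.asIdeal)
        ((PrimeSpectrum.preimageEquivFiber R' P' ⟨p', inferInstance⟩).symm_apply_apply ⟨_, hh⟩)⟩
  let ι := (Algebra.TensorProduct.includeRight : P →ₐ[R] p.Fiber P).toRingHom
  let ι' := (Algebra.TensorProduct.includeRight : P' →ₐ[R'] p'.Fiber P').toRingHom
  have hψι' : ψ.comp ι = ι'.comp (algebraMap P P') := RingHom.ext hψι
  have hQ : (Q'.asIdeal.comap ψ).comap ι = q.comap (algebraMap P B) := by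
    rw [Ideal.comap_comap, hψι', ← Ideal.comap_comap, hQ', Ideal.comap_comap, Ideal.comap_comap,
      ← IsScalarTower.algebraMap_eq, ← IsScalarTower.algebraMap_eq]
  haveI : IsNoetherianRing (p.Fiber P) := Algebra.FiniteType.isNoetherianRing p.ResidueField _
  haveI : IsNoetherianRing (p'.Fiber P') := Algebra.FiniteType.isNoetherianRing p'.ResidueField _
  rw [exists_isLCI_away_iff (P := P) hφ p q rfl (Q'.asIdeal.comap ψ) hQ,
    exists_isLCI_away_iff (P := P') hs' p' q' rfl Q'.asIdeal hQ', hk, Ideal.map_map (algebraMap P P') ι',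
    ← hψι', ← Ideal.map_map ι ψ]
  refine isRegularIdeal_localization_iff ψ hψ _ Q'.asIdeal ?_
  rw [Ideal.map_le_iff_le_comap, hQ]
  intro x hx
  show algebraMap P B x ∈ q
  rw [RingHom.mem_ker.1 hx]
  exact zero_mem _

end Groth.Agent.CIFlatLib
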