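import Groth.Agent.CIFlatLib.Complete
import Groth.Agent.CMCat.ComplQuot
import Groth.Agent.S9231

/-!
# Complete intersections: flat descent and ascent, quotients, completion
-/

set_option autoImplicit false
set_option linter.style.haveILetI false
set_option backward.isDefEq.respectTransparency false

universe u

open IsLocalRing RingTheory.Sequence

noncomputable section

namespace Groth.Agent.CIFlatLib

theorem isCI_congr {C C' : Type u} [CommRing C] [CommRing C'] [IsLocalRing C] [IsLocalRing C']
    (e : C ≃+* C') : Pi1.IsCompleteIntersection C ↔ Pi1.IsCompleteIntersection C' := by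
  have hmap : (maximalIdeal C).map e.toRingHom = maximalIdeal C' :=
    IsLocalRing.map_maximalIdeal_of_surjective _ e.surjective
  have hpow : ∀ n, maximalIdeal C ^ n = (maximalIdeal C' ^ n).comap e.toRingHom := fun n => by
    rw [← hmap, ← Ideal.map_pow]
    exact (Ideal.comap_map_of_bijective e.toRingHom e.bijective).symm
  obtain ⟨ê, -⟩ := SectionComplLib.exists_completionEquiv (maximalIdeal C) (maximalIdeal C') e.toRingHom
    (fun n => (hpow n).le) (fun n => ⟨Ideal.quotientMap_injective' (hpow n).ge,
      Ideal.quotientMap_surjective e.surjective⟩)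
  constructor
  · rintro ⟨B, i, hB, rs, h1, h2, ⟨f⟩⟩
    exact ⟨B, i, hB, rs, h1, h2, ⟨ê.symm.trans f⟩⟩
  · rintro ⟨B, i, hB, rs, h1, h2, ⟨f⟩⟩
    exact ⟨B, i, hB, rs, h1, h2, ⟨ê.trans f⟩⟩

theorem isCI_complete_iff {C : Type u} [CommRing C] [IsLocalRing C] [IsAdicComplete (maximalIdeal C) C] :
    Pi1.IsCompleteIntersection C ↔ ∃ (B : Type u) (_ : CommRing B) (_ : IsRegularLocalRing B) (rs : List B),
      (∀ r ∈ rs, r ∈ maximalIdeal B) ∧ IsRegular B rs ∧ Nonempty (C ≃+* B ⧸ Ideal.span {r | r ∈ rs}) := by
  let e := (AdicCompletion.ofAlgEquiv (maximalIdeal C)).toRingEquiv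
  constructor
  · rintro ⟨B, i, hB, rs, h1, h2, ⟨f⟩⟩
    exact ⟨B, i, hB, rs, h1, h2, ⟨e.trans f⟩⟩
  · rintro ⟨B, i, hB, rs, h1, h2, ⟨f⟩⟩
    exact ⟨B, i, hB, rs, h1, h2, ⟨e.symm.trans f⟩⟩

theorem isAdicComplete_completion (C : Type u) [CommRing C] [IsLocalRing C] [IsNoetherianRing C] :
    IsAdicComplete (maximalIdeal (AdicCompletion (maximalIdeal C) C)) (AdicCompletion (maximalIdeal C) C) := by
  rw [AdicCompletion.maximalIdeal_eq_map]
  exact AdicCompletion.isAdicComplete_self _ (maximalIdeal C).fg_of_isNoetherianRing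

theorem isCI_completion_iff (C : Type u) [CommRing C] [IsLocalRing C] [IsNoetherianRing C] :
    Pi1.IsCompleteIntersection (AdicCompletion (maximalIdeal C) C) ↔ Pi1.IsCompleteIntersection C := by
  haveI := isAdicComplete_completion C
  exact isCI_complete_iff

theorem isCI_of_isRegularLocalRing (C : Type u) [CommRing C] [IsRegularLocalRing C] :
    Pi1.IsCompleteIntersection C := by
  rw [CILib.isCompleteIntersection_iff_cutBy (RingHom.id C) Function.surjective_id]
  refine CILib.cutBy_of_isRegular (RingHom.id C) Function.surjective_id [] ⟨IsWeaklyRegular.nil C C, by simp⟩ ?_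
  rw [Ideal.ofList_nil]
  exact (RingHom.injective_iff_ker_eq_bot _).1 fun _ _ h => h

/-- Along a flat local map the source and the closed fibre are complete intersections iff the target is. -/
theorem isCI_iff_of_flat (A B : Type u) [CommRing A] [CommRing B] [IsNoetherianRing A] [IsNoetherianRing B]
    [IsLocalRing A] [IsLocalRing B] [Algebra A B] [IsLocalHom (algebraMap A B)] [Module.Flat A B]
    [IsLocalRing (B ⧸ (maximalIdeal A).map (algebraMap A B))] :
    Pi1.IsCompleteIntersection B ↔ Pi1.IsCompleteIntersection A ∧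
      Pi1.IsCompleteIntersection (B ⧸ (maximalIdeal A).map (algebraMap A B)) := by
  let A' := AdicCompletion (maximalIdeal A) A
  let B' := AdicCompletion (maximalIdeal B) B
  haveI : IsNoetherianRing A' := RegLocal.isNoetherianRing_completion A _
  haveI : IsNoetherianRing B' := RegLocal.isNoetherianRing_completion B _
  haveI : IsAdicComplete (maximalIdeal A') A' := isAdicComplete_completion A
  haveI : IsAdicComplete (maximalIdeal B') B' := isAdicComplete_completion B
  have hle : (maximalIdeal A).map (algebraMap A B) ≤ maximalIdeal B :=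
    ((local_hom_TFAE (algebraMap A B)).out 0 2).mp ‹_›
  let ψ : A' →+* B' := CMCat.complHom (algebraMap A B) (maximalIdeal A) (maximalIdeal B) hle
  have hψ : ψ.comp (algebraMap A A') = (algebraMap B B').comp (algebraMap A B) :=
    RingHom.ext fun a => CMCat.complHom_algebraMap (algebraMap A B) _ _ hle a
  letI : Algebra A' B' := ψ.toAlgebra
  have hmap : (maximalIdeal A').map (algebraMap A' B') =
      ((maximalIdeal A).map (algebraMap A B)).map (algebraMap B B') := by
    rw [AdicCompletion.maximalIdeal_eq_map, Ideal.map_map, show (algebraMap A' B').comp (algebraMap A A') = _ from hψ,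
      ← Ideal.map_map]
  haveI : IsLocalHom (algebraMap A' B') := ((local_hom_TFAE (algebraMap A' B')).out 0 2).mpr (by
    rw [hmap, AdicCompletion.maximalIdeal_eq_map]
    exact Ideal.map_mono hle)
  haveI : Module.Flat A' B' := RingHom.flat_algebraMap_iff.1
    ((Groth.Agent.S9231.result A B ψ hψ).2 (RingHom.flat_algebraMap_iff.2 inferInstance))
  haveI : IsLocalRing (B' ⧸ (maximalIdeal A').map (algebraMap A' B')) := RegLocal.isLocalRing_quot
    (ne_top_of_le_ne_top (maximalIdeal.isMaximal _).ne_top (((local_hom_TFAE (algebraMap A' B')).out 0 2).mp ‹_›))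
  obtain ⟨e, -⟩ := CMCat.exists_complQuotEquiv (A := B) ((maximalIdeal A).map (algebraMap A B))
  let e' : (B' ⧸ (maximalIdeal A').map (algebraMap A' B')) ≃+*
      AdicCompletion (maximalIdeal (B ⧸ (maximalIdeal A).map (algebraMap A B)))
        (B ⧸ (maximalIdeal A).map (algebraMap A B)) := (Ideal.quotEquivOfEq hmap).trans e
  rw [← isCI_completion_iff B, isCI_iff_of_complete A' B', isCI_completion_iff A, isCI_congr e',
    isCI_completion_iff]

/-- A quotient of a complete intersection by a regular sequence is one. -/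
theorem isCI_quotient (C : Type u) [CommRing C] [IsNoetherianRing C] [IsLocalRing C]
    (hC : Pi1.IsCompleteIntersection C) (rs : List C) (hrs : IsRegular C rs)
    [IsLocalRing (C ⧸ Ideal.ofList rs)] : Pi1.IsCompleteIntersection (C ⧸ Ideal.ofList rs) := by
  obtain ⟨R, _, _, ks, hksm, hks, ⟨f⟩⟩ := hC
  let C' := AdicCompletion (maximalIdeal C) C
  haveI : IsNoetherianRing C' := RegLocal.isNoetherianRing_completion C _
  haveI := RegLocal.faithfullyFlat_completion C (maximalIdeal C) (maximalIdeal.isMaximal C).ne_top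
  let π : R →+* C' := f.symm.toRingHom.comp (Ideal.Quotient.mk (Ideal.span {r | r ∈ ks}))
  have hπ : Function.Surjective π := f.symm.surjective.comp Ideal.Quotient.mk_surjective
  have hπk : RingHom.ker π = Ideal.span {r | r ∈ ks} := by
    ext z
    rw [RingHom.mem_ker]
    show f.symm (Ideal.Quotient.mk _ z) = 0 ↔ _
    rw [map_eq_zero_iff _ f.symm.injective, Ideal.Quotient.eq_zero_iff_mem]
  have hrs' : IsRegular C' (rs.map (algebraMap C C')) := hrs.of_faithfullyFlat
  let K := (Ideal.ofList (rs.map (algebraMap C C'))).comap π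
  have hKne : Ideal.ofList (rs.map (algebraMap C C')) ≠ ⊤ := fun h => hrs'.top_ne_smul (by
    rw [smul_eq_mul, Ideal.mul_top]; exact h.symm)
  have hK : K ≠ ⊤ := fun h => hKne (by
    rw [← Ideal.map_comap_of_surjective π hπ (Ideal.ofList (rs.map (algebraMap C C')))]
    show K.map π = ⊤
    rw [h, Ideal.map_top])
  have hJK : RingHom.ker π ≤ K := fun z hz => by
    refine Ideal.mem_comap.2 ?_
    rw [RingHom.mem_ker.1 hz]; exact zero_mem _
  have hKreg : CInt.IsRegularIdeal K := by
    refine RegIdealLib.isRegularIdeal_of_extension hJK (le_maximalIdeal hK) ⟨ks, hks, hπk.symm⟩ ?_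
    let e := RingHom.quotientKerEquivOfSurjective hπ
    refine ⟨(rs.map (algebraMap C C')).map e.symm, ?_, ?_⟩
    · have key := (e.symm.toAddEquiv.isRegular_congr (as := rs.map (algebraMap C C'))
        (bs := (rs.map (algebraMap C C')).map e.symm) ?_).1 hrs'
      · exact key
      · rw [List.forall₂_map_right_iff]
        exact List.forall₂_same.2 fun s _ x => map_mul e.symm s x
    · rw [show (rs.map (algebraMap C C')).map e.symm = (rs.map (algebraMap C C')).map e.symm.toRingHom from rfl,
        ← Ideal.map_ofList]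
      have h1 : Ideal.Quotient.mk (RingHom.ker π) = e.symm.toRingHom.comp π := RingHom.ext fun z => by
        show _ = e.symm (π z)
        rw [RingEquiv.eq_symm_apply]
        rfl
      show _ = K.map _
      rw [h1, ← Ideal.map_map, Ideal.map_comap_of_surjective π hπ]
  obtain ⟨ls, hls, hlsK⟩ := hKreg
  obtain ⟨e, -⟩ := CMCat.exists_complQuotEquiv (A := C) (Ideal.ofList rs)
  refine ⟨R, inferInstance, inferInstance, ls, fun r hr => le_maximalIdeal hK (hlsK ▸ Ideal.subset_span hr), hls,
    ⟨e.symm.trans ?_⟩⟩
  let q : R →+* C' ⧸ (Ideal.ofList rs).map (algebraMap C C') := (Ideal.Quotient.mk _).comp π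
  refine ((RingHom.quotientKerEquivOfSurjective (f := q) (Ideal.Quotient.mk_surjective.comp hπ)).symm).trans
    (Ideal.quotEquivOfEq ?_)
  show RingHom.ker ((Ideal.Quotient.mk _).comp π) = _
  rw [← RingHom.comap_ker, Ideal.mk_ker, Ideal.map_ofList]
  exact hlsK.symm

/-- The localisation of a complete intersection at a prime is one. -/
theorem isCI_atPrime {A : Type u} [CommRing A] [IsNoetherianRing A] [IsLocalRing A]
    (hA : Pi1.IsCompleteIntersection A) (p : Ideal A) [p.IsPrime] :
    Pi1.IsCompleteIntersection (Localization.AtPrime p) := by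
  obtain ⟨R, _, _, ks, hksm, hks, ⟨f⟩⟩ := hA
  let A' := AdicCompletion (maximalIdeal A) A
  haveI : IsNoetherianRing A' := RegLocal.isNoetherianRing_completion A _
  haveI := RegLocal.faithfullyFlat_completion A (maximalIdeal A) (maximalIdeal.isMaximal A).ne_top
  obtain ⟨Q, hQ⟩ := PrimeSpectrum.comap_surjective_of_faithfullyFlat (A := A) (B := A') ⟨p, inferInstance⟩
  let π : R →+* A' := f.symm.toRingHom.comp (Ideal.Quotient.mk (Ideal.span {r | r ∈ ks}))
  have hπ : Function.Surjective π := f.symm.surjective.comp Ideal.Quotient.mk_surjective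
  have hπk : RingHom.ker π = Ideal.span {r | r ∈ ks} := by
    ext z
    rw [RingHom.mem_ker]
    show f.symm (Ideal.Quotient.mk _ z) = 0 ↔ _
    rw [map_eq_zero_iff _ f.symm.injective, Ideal.Quotient.eq_zero_iff_mem]
  let P := Q.asIdeal.comap π
  let π' := Localization.localRingHom P Q.asIdeal π rfl
  have hπ' : Function.Surjective π' := CMGraded.localRingHom_surjective hπ _ _ rfl
  haveI : IsRegularLocalRing (Localization.AtPrime P) := RegLocal.isRegularLocalRing_localization R P
  haveI : Module.Flat R (Localization.AtPrime P) := IsLocalization.flat _ P.primeCompl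
  have hci : Pi1.IsCompleteIntersection (Localization.AtPrime Q.asIdeal) := by
    rw [CILib.isCompleteIntersection_iff_cutBy π' hπ']
    refine CILib.cutBy_of_isRegular π' hπ' (ks.map (algebraMap R (Localization.AtPrime P)))
      ⟨IsWeaklyRegular.of_flat hks.toIsWeaklyRegular, ?_⟩ ?_
    · rw [smul_eq_mul, Ideal.mul_top, ← Ideal.map_ofList]
      refine (ne_top_of_le_ne_top (maximalIdeal.isMaximal _).ne_top ?_).symm
      rw [← Localization.AtPrime.map_eq_maximalIdeal]
      refine Ideal.map_mono ?_
      show Ideal.ofList ks ≤ P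
      rw [show Ideal.ofList ks = RingHom.ker π from hπk.symm]
      intro z hz
      refine Ideal.mem_comap.2 ?_
      rw [RingHom.mem_ker.1 hz]; exact zero_mem _
    · rw [CMGraded.ker_localRingHom (φ := π) hπ, hπk, ← Ideal.map_ofList]
  have hQp : p = Q.asIdeal.comap (algebraMap A A') := (congrArg PrimeSpectrum.asIdeal hQ).symm
  haveI : Q.asIdeal.LiesOver p := ⟨hQp⟩
  letI := Localization.AtPrime.algebraOfLiesOver p Q.asIdeal
  haveI : IsLocalHom (algebraMap (Localization.AtPrime p) (Localization.AtPrime Q.asIdeal)) :=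
    Localization.isLocalHom_localRingHom p Q.asIdeal (algebraMap A A') hQp
  haveI : Module.Flat A' (Localization.AtPrime Q.asIdeal) := IsLocalization.flat _ Q.asIdeal.primeCompl
  haveI : Module.Flat A (Localization.AtPrime Q.asIdeal) := Module.Flat.trans A A' _
  haveI : Module.Flat (Localization.AtPrime p) (Localization.AtPrime Q.asIdeal) :=
    (Module.flat_iff_of_isLocalization (Localization.AtPrime p) p.primeCompl _).2 inferInstance
  haveI : IsLocalRing (Localization.AtPrime Q.asIdeal ⧸
      (maximalIdeal (Localization.AtPrime p)).map (algebraMap _ (Localization.AtPrime Q.asIdeal))) :=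
    RegLocal.isLocalRing_quot (ne_top_of_le_ne_top (maximalIdeal.isMaximal _).ne_top
      (((local_hom_TFAE (algebraMap (Localization.AtPrime p) (Localization.AtPrime Q.asIdeal))).out 0 2).mp ‹_›))
  exact ((isCI_iff_of_flat (Localization.AtPrime p) (Localization.AtPrime Q.asIdeal)).1 hci).1

end Groth.Agent.CIFlatLib

end
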