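import Groth.Agent.CohenPresLib.Basic
import Groth.Agent.CancelLib.Relative
import Groth.Agent.CILib.CompleteIntersection
import Groth.Agent.TorLib.Basic

/-!
# Complete intersections along flat maps of complete local rings
-/

set_option autoImplicit false
set_option linter.style.haveILetI false
set_option backward.isDefEq.respectTransparency false

universe u

open CategoryTheory IsLocalRing RingTheory.Sequence
attribute [local instance] HasDerivedCategory.standard

noncomputable section

namespace Groth.Agent.CIFlatLib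

theorem regular_of_coeff {Λ : Type u} [CommRing Λ] [IsLocalRing Λ] (h : IsField Λ ∨ CAlg.IsCohenRing Λ)
    (n : ℕ) : IsRegularLocalRing (MvPowerSeries (Fin n) Λ) := by
  rcases h with h | ⟨_, _, _, p, hp, hm⟩
  · letI := h.toField
    exact (CohenPresLib.regular_ps (Λ := Λ) (d := 0) Fin.elim0
      (by rw [isField_iff_maximalIdeal_eq.1 h, Set.range_eq_empty, Ideal.span_empty])
      (by rw [ringKrullDim_eq_zero_of_field]; rfl) n).1
  · exact (CohenPresLib.regular_ps (Λ := Λ) (d := 1) ![p]
      (by rw [hm]; congr 1; ext z; simp)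
      (by rw [IsPrincipalIdealRing.ringKrullDim_eq_one Λ (IsDiscreteValuationRing.not_isField Λ)]; rfl) n).1

/-- A map of complete local rings is covered by a flat map of regular local rings with regular closed fibre. -/
theorem exists_regular_presentation (A B : Type u) [CommRing A] [CommRing B] [IsLocalRing A] [IsLocalRing B]
    [IsNoetherianRing A] [IsNoetherianRing B] [IsAdicComplete (maximalIdeal A) A]
    [IsAdicComplete (maximalIdeal B) B] [Algebra A B] [IsLocalHom (algebraMap A B)] :
    ∃ (R T : Type u) (_ : CommRing R) (_ : CommRing T) (_ : IsRegularLocalRing R) (_ : IsRegularLocalRing T)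
      (_ : Algebra R T) (ρ : R →+* A) (σ : T →+* B), Function.Surjective ρ ∧ Function.Surjective σ ∧
        σ.comp (algebraMap R T) = (algebraMap A B).comp ρ ∧ IsLocalHom (algebraMap R T) ∧ Module.Flat R T ∧
        IsRegularLocalRing (T ⧸ (maximalIdeal R).map (algebraMap R T)) := by
  obtain ⟨Λ, Λ', _, _, _, n, m, ρ, σ, τ, hΛ, hρ, hσ, hc, hτ, hreg⟩ :=
    CohenPresLib.exists_presentation (A := A) (B := B)
  haveI : IsLocalRing Λ' := by
    rcases hΛ with ⟨-, -, h⟩ | ⟨-, -, _, _, -, -⟩
    · letI := h.toField; infer_instance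
    · infer_instance
  haveI : IsRegularLocalRing (MvPowerSeries (Fin n) Λ) :=
    regular_of_coeff (hΛ.imp (fun h => h.2.1) fun h => h.2.1) n
  haveI : IsRegularLocalRing (MvPowerSeries (Fin m) Λ') :=
    regular_of_coeff (hΛ.imp (fun h => h.2.2) fun h => h.2.2) m
  letI : Algebra (MvPowerSeries (Fin n) Λ) (MvPowerSeries (Fin m) Λ') := τ.toAlgebra
  haveI : IsLocalHom ρ := IsLocalHom.of_surjective _ hρ
  haveI : IsLocalHom τ := ⟨fun x hx => by
    have h : IsUnit ((σ.comp τ) x) := hx.map σ
    rw [hc] at h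
    exact (isUnit_map_iff ρ x).1 ((isUnit_map_iff (algebraMap A B) _).1 h)⟩
  have hne : (maximalIdeal (MvPowerSeries (Fin n) Λ)).map τ ≠ ⊤ :=
    ne_top_of_le_ne_top (maximalIdeal.isMaximal _).ne_top (((local_hom_TFAE τ).out 0 2).mp ‹_›)
  haveI : IsLocalRing (MvPowerSeries (Fin m) Λ' ⧸ (maximalIdeal (MvPowerSeries (Fin n) Λ)).map τ) :=
    RegLocal.isLocalRing_quot hne
  haveI := hreg
  exact ⟨_, _, inferInstance, inferInstance, inferInstance, inferInstance, inferInstance, ρ, σ, hρ, hσ, hc,
    ‹IsLocalHom τ›, hτ, IsRegularLocalRing.of_isRegularRing_of_isLocalRing _⟩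

/-- The dimension formula of a flat local map. -/
theorem ringKrullDim_eq_add_fibre (R S : Type u) [CommRing R] [CommRing S] [IsLocalRing R] [IsLocalRing S]
    [IsNoetherianRing R] [IsNoetherianRing S] [Algebra R S] [IsLocalHom (algebraMap R S)] [Module.Flat R S] :
    ringKrullDim S = ringKrullDim R + ringKrullDim (S ⧸ (maximalIdeal R).map (algebraMap R S)) := by
  have hne : (maximalIdeal R).map (algebraMap R S) ≠ ⊤ := ne_top_of_le_ne_top (maximalIdeal.isMaximal _).ne_top
    (((local_hom_TFAE (algebraMap R S)).out 0 2).mp ‹_›)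
  haveI := RegLocal.isLocalRing_quot hne
  have : (maximalIdeal S).LiesOver (maximalIdeal R) := ⟨(((local_hom_TFAE (algebraMap R S)).out 0 4
    rfl rfl).mp inferInstance).symm⟩
  rw [← maximalIdeal_height_eq_ringKrullDim, ← maximalIdeal_height_eq_ringKrullDim,
    ← maximalIdeal_height_eq_ringKrullDim, RegLocal.maximalIdeal_quot hne,
    Ideal.height_eq_height_add_of_liesOver_of_hasGoingDown (maximalIdeal R) (maximalIdeal S)]
  rfl

/-- `ker σ ∩ 𝔞 T ≤ (ker ρ) T + 𝔞 ker σ` when the quotient is flat. -/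
theorem inf_map_le {R A T B : Type u} [CommRing R] [CommRing A] [CommRing T] [CommRing B] [Algebra R T]
    [Algebra A B] [Module.Flat A B] (ρ : R →+* A) (hρ : Function.Surjective ρ) (σ : T →+* B)
    (hσ : Function.Surjective σ) (hc : σ.comp (algebraMap R T) = (algebraMap A B).comp ρ) (𝔞 : Ideal R) :
    RingHom.ker σ ⊓ 𝔞.map (algebraMap R T) ≤
      (RingHom.ker ρ).map (algebraMap R T) ⊔ 𝔞.map (algebraMap R T) * RingHom.ker σ := by
  classical
  rintro y ⟨hy1, hy2⟩
  obtain ⟨n, t, g, hy⟩ := Submodule.mem_span_set'.1 hy2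
  choose a ha hga using fun i => (g i).2
  have hrel : ∑ i, ρ (a i) • σ (t i) = 0 := by
    have h0 : σ y = 0 := hy1
    rw [← hy, map_sum] at h0
    rw [← h0]
    refine Finset.sum_congr rfl fun i _ => ?_
    rw [smul_eq_mul, map_mul, ← hga, Algebra.smul_def, mul_comm]
    exact congrArg (σ (t i) * ·) (RingHom.congr_fun hc (a i)).symm
  obtain ⟨k, c, z, hz, hcz⟩ := Module.Flat.isTrivialRelation_of_sum_smul_eq_zero (R := A) (M := B)
    (f := fun i => ρ (a i)) (x := fun i => σ (t i)) hrel
  beta_reduce at hz hcz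
  choose c' hc' using fun i j => hρ (c i j)
  choose z' hz' using fun j => hσ (z j)
  let j : Fin n → T := fun i => t i - ∑ l, algebraMap R T (c' i l) * z' l
  have hj : ∀ i, j i ∈ RingHom.ker σ := fun i => by
    rw [RingHom.mem_ker, map_sub, map_sum, sub_eq_zero, hz i]
    refine Finset.sum_congr rfl fun l _ => ?_
    rw [map_mul, hz', Algebra.smul_def, ← hc']
    exact congrArg (· * z l) (RingHom.congr_fun hc (c' i l)).symm
  have hdec : y = ∑ l, algebraMap R T (∑ i, a i * c' i l) * z' l + ∑ i, algebraMap R T (a i) * j i := by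
    simp only [map_sum, map_mul, Finset.sum_mul, j, mul_sub, Finset.mul_sum, Finset.sum_sub_distrib]
    rw [Finset.sum_comm, ← hy]
    simp only [smul_eq_mul, ← hga, mul_assoc, mul_comm (t _)]
    ring
  rw [hdec]
  refine Submodule.add_mem_sup (sum_mem fun l _ => Ideal.mul_mem_right _ _ (Ideal.mem_map_of_mem _ ?_))
    (sum_mem fun i _ => Ideal.mul_mem_mul (Ideal.mem_map_of_mem _ (ha i)) (hj i))
  rw [RingHom.mem_ker, map_sum, ← hcz l]
  exact Finset.sum_congr rfl fun i _ => by rw [map_mul, hc']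

section Main

variable {A B : Type u} [CommRing A] [CommRing B] [IsLocalRing A] [IsLocalRing B]
  [Algebra A B] [Module.Flat A B]
  {R T : Type u} [CommRing R] [CommRing T] [IsRegularLocalRing R] [IsRegularLocalRing T] [Algebra R T]
  [IsLocalHom (algebraMap R T)] [Module.Flat R T]

theorem cutBy_iff_of_flat (ρ : R →+* A) (σ : T →+* B) (hρ : Function.Surjective ρ) (hσ : Function.Surjective σ)
    (hc : σ.comp (algebraMap R T) = (algebraMap A B).comp ρ)
    [IsRegularLocalRing (T ⧸ (maximalIdeal R).map (algebraMap R T))]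
    (π : T ⧸ (maximalIdeal R).map (algebraMap R T) →+* B ⧸ (maximalIdeal A).map (algebraMap A B))
    (hπ : ∀ t, π (Ideal.Quotient.mk _ t) = Ideal.Quotient.mk _ (σ t)) :
    CILib.CutBy σ ↔ CILib.CutBy ρ ∧ CILib.CutBy π := by
  classical
  haveI : IsNoetherianRing A := isNoetherianRing_of_surjective R A ρ hρ
  haveI : IsNoetherianRing B := isNoetherianRing_of_surjective T B σ hσ
  haveI : IsLocalHom ρ := IsLocalHom.of_surjective _ hρ
  haveI : IsLocalHom σ := IsLocalHom.of_surjective _ hσ
  haveI : IsLocalHom (algebraMap A B) := ⟨fun x hx => by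
    obtain ⟨r, rfl⟩ := hρ x
    have h : IsUnit ((σ.comp (algebraMap R T)) r) := by rw [hc]; exact hx
    exact ((isUnit_map_iff (algebraMap R T) r).1 ((isUnit_map_iff σ _).1 h)).map ρ⟩
  let mT := (maximalIdeal R).map (algebraMap R T)
  let mB := (maximalIdeal A).map (algebraMap A B)
  have hmB : mB = mT.map σ := by
    show (maximalIdeal A).map (algebraMap A B) = _
    rw [Ideal.map_map, hc, ← Ideal.map_map, IsLocalRing.map_maximalIdeal_of_surjective ρ hρ]
  have hker : RingHom.ker π = (RingHom.ker σ).map (Ideal.Quotient.mk mT) := by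
    refine le_antisymm (fun z hz => ?_) (Ideal.map_le_iff_le_comap.2 fun t ht => ?_)
    · obtain ⟨t, rfl⟩ := Ideal.Quotient.mk_surjective z
      have h1 : σ t ∈ mT.map σ := by
        rw [← hmB, ← Ideal.Quotient.eq_zero_iff_mem, ← hπ]; exact hz
      obtain ⟨s, hs, hst⟩ := (Ideal.mem_map_iff_of_surjective σ hσ).1 h1
      rw [show Ideal.Quotient.mk mT t = Ideal.Quotient.mk mT (t - s) by
        rw [map_sub, Ideal.Quotient.eq_zero_iff_mem.2 hs, sub_zero]]
      exact Ideal.mem_map_of_mem _ (by rw [RingHom.mem_ker, map_sub, hst, sub_self])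
    · show π _ = 0
      rw [hπ, RingHom.mem_ker.1 ht, map_zero]
  have hπs : Function.Surjective π := fun z => by
    obtain ⟨b, rfl⟩ := Ideal.Quotient.mk_surjective z
    obtain ⟨t, rfl⟩ := hσ b
    exact ⟨_, hπ t⟩
  let I := RingHom.ker ρ
  let J := RingHom.ker σ
  let I' := I.map (algebraMap R T)
  have hI : I ≠ ⊤ := RingHom.ker_ne_top ρ
  have hJ : J ≠ ⊤ := RingHom.ker_ne_top σ
  have hIJ : I' ≤ J := Ideal.map_le_iff_le_comap.2 fun r hr => by
    show σ (algebraMap R T r) = 0
    rw [← RingHom.comp_apply, hc, RingHom.comp_apply, RingHom.mem_ker.1 hr, map_zero]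
  have hmne : mB ≠ ⊤ := ne_top_of_le_ne_top (maximalIdeal.isMaximal _).ne_top
    (((local_hom_TFAE (algebraMap A B)).out 0 2).mp ‹_›)
  haveI : Nontrivial (B ⧸ mB) := Ideal.Quotient.nontrivial_iff.2 hmne
  obtain ⟨dA, hdA⟩ := CILib.exists_nat_ringKrullDim' A
  obtain ⟨dR, hdR⟩ := CILib.exists_nat_ringKrullDim' R
  obtain ⟨dF, hdF⟩ := CILib.exists_nat_ringKrullDim' (T ⧸ mT)
  haveI : IsLocalRing (B ⧸ mB) := RegLocal.isLocalRing_quot hmne
  obtain ⟨dG, hdG⟩ := CILib.exists_nat_ringKrullDim' (B ⧸ mB)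
  have hdB := ringKrullDim_eq_add_fibre A B
  have hdT := ringKrullDim_eq_add_fibre R T
  rw [hdA, hdG, ← Nat.cast_add] at hdB
  rw [hdR, hdF, ← Nat.cast_add] at hdT
  constructor
  · intro h
    obtain ⟨ks, hks, hksJ⟩ := CILib.isRegular_of_cutBy σ hσ h
    let eA := RingHom.quotientKerEquivOfSurjective hρ
    let eB := RingHom.quotientKerEquivOfSurjective hσ
    letI : Algebra (R ⧸ I) (T ⧸ J) := (Ideal.quotientMap J (algebraMap R T)
      (Ideal.map_le_iff_le_comap.1 hIJ)).toAlgebra
    haveI : IsScalarTower R (R ⧸ I) (T ⧸ J) := .of_algebraMap_eq fun _ => rfl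
    have hmap : algebraMap (R ⧸ I) (T ⧸ J) = eB.symm.toRingHom.comp ((algebraMap A B).comp eA.toRingHom) := by
      refine Ideal.Quotient.ringHom_ext (RingHom.ext fun r => eB.injective ?_)
      show σ (algebraMap R T r) = eB (eB.symm (algebraMap A B (ρ r)))
      rw [RingEquiv.apply_symm_apply]
      exact RingHom.congr_fun hc r
    haveI : Module.Flat (R ⧸ I) (T ⧸ J) := by
      rw [← RingHom.flat_algebraMap_iff, hmap]
      exact RingHom.Flat.comp (RingHom.Flat.comp (RingHom.Flat.of_bijective eA.bijective)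
        (RingHom.flat_algebraMap_iff.2 inferInstance)) (RingHom.Flat.of_bijective eB.symm.bijective)
    obtain ⟨hIreg, hJI⟩ := CancelLib.map_residue_of_regular I J hI hJ hIJ ⟨ks, hks, hksJ.symm⟩
      ((Set.finite_singleton 0).subset fun p hp => by
        by_contra h0
        obtain ⟨q, rfl⟩ := Nat.exists_eq_succ_of_ne_zero h0
        exact hp (TorLib.subsingleton_tor_of_flat _ _ q))
    obtain ⟨is, his, hisI⟩ := hIreg
    obtain ⟨js, hjs, hjsJ⟩ := hJI
    refine ⟨CILib.cutBy_of_isRegular ρ hρ is his hisI.symm, js.length, ?_, ?_⟩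
    · refine ⟨fun i => Ideal.Quotient.factor (S := I') (T := mT) (Ideal.map_mono (le_maximalIdeal hI)) (js.get i), ?_⟩
      rw [hker, show Ideal.Quotient.mk mT = (Ideal.Quotient.factor (S := I') (T := mT)
        (Ideal.map_mono (le_maximalIdeal hI))).comp (Ideal.Quotient.mk I') from RingHom.ext fun _ => rfl,
        ← Ideal.map_map, ← hjsJ, Ideal.ofList, Ideal.map_span, ← Set.range_list_get, ← Set.range_comp]
      rfl
    · have hne' : I' ≠ ⊤ := ne_top_of_le_ne_top hJ hIJ
      haveI : IsLocalRing (T ⧸ I') := RegLocal.isLocalRing_quot hne'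
      have hI'reg : RingTheory.Sequence.IsRegular T (is.map (algebraMap R T)) :=
        haveI : Module.FaithfullyFlat R T := Module.FaithfullyFlat.of_flat_of_isLocalHom
        his.of_faithfullyFlat
      have e1 := ringKrullDim_add_length_eq_ringKrullDim_of_isRegular _ hI'reg
      have e2 := ringKrullDim_add_length_eq_ringKrullDim_of_isRegular _ his
      have e3 := ringKrullDim_add_length_eq_ringKrullDim_of_isRegular _ hjs
      rw [ringKrullDim_eq_of_ringEquiv (Ideal.quotEquivOfEq (show Ideal.ofList (is.map (algebraMap R T)) = I' by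
        rw [← Ideal.map_ofList, hisI]))] at e1
      rw [ringKrullDim_eq_of_ringEquiv ((Ideal.quotEquivOfEq hisI).trans eA), hdA] at e2
      rw [ringKrullDim_eq_of_ringEquiv (((Ideal.quotEquivOfEq hjsJ).trans
        (DoubleQuot.quotQuotEquivQuotOfLE hIJ)).trans eB), hdB] at e3
      rw [← e3, hdT, List.length_map] at e1
      rw [hdR] at e2
      rw [hdF, hdG]
      norm_cast at e1 e2 ⊢
      omega
  · rintro ⟨⟨a, ⟨f, hf⟩, hda⟩, c, ⟨g, hg⟩, hdc⟩
    rw [hdR, hdA] at hda
    rw [hdF, hdG] at hdc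
    have hglift : ∀ i, ∃ t ∈ J, Ideal.Quotient.mk mT t = g i := fun i =>
      (Ideal.mem_map_iff_of_surjective _ Ideal.Quotient.mk_surjective).1 (hker ▸ hg ▸ Ideal.subset_span ⟨i, rfl⟩)
    choose t htJ htg using hglift
    refine ⟨a + c, ⟨Fin.append (algebraMap R T ∘ f) t, ?_⟩, ?_⟩
    · set J' := Ideal.span (Set.range (Fin.append (algebraMap R T ∘ f) t)) with hJ'
      have hI'J' : I' ≤ J' := by
        show (RingHom.ker ρ).map (algebraMap R T) ≤ _
        rw [hf, Ideal.map_span, ← Set.range_comp]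
        refine Ideal.span_mono ?_
        rintro _ ⟨i, rfl⟩
        exact ⟨Fin.castAdd c i, Fin.append_left _ _ i⟩
      have htJ' : ∀ i, t i ∈ J' := fun i => Ideal.subset_span ⟨Fin.natAdd a i, Fin.append_right _ _ i⟩
      have hle : J' ≤ J := by
        rw [hJ', Ideal.span_le]
        rintro _ ⟨i, rfl⟩
        refine Fin.addCases (fun l => ?_) (fun l => ?_) i
        · rw [Fin.append_left]
          exact hIJ (Ideal.mem_map_of_mem _ (show f l ∈ RingHom.ker ρ from hf ▸ Ideal.subset_span ⟨l, rfl⟩))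
        · rw [Fin.append_right]; exact htJ l
      refine le_antisymm ?_ hle
      refine Submodule.le_of_le_smul_of_le_jacobson_bot (I := mT) (IsNoetherian.noetherian _) ?_ ?_
      · rw [IsLocalRing.jacobson_eq_maximalIdeal _ bot_ne_top]
        exact ((local_hom_TFAE (algebraMap R T)).out 0 2).mp ‹_›
      · intro x hx
        have hxm : Ideal.Quotient.mk mT x ∈ J'.map (Ideal.Quotient.mk mT) := by
          have h1 : Ideal.Quotient.mk mT x ∈ Ideal.span (Set.range g) := hg ▸ hker ▸ Ideal.mem_map_of_mem _ hx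
          refine Ideal.span_le.2 ?_ h1
          rintro _ ⟨i, rfl⟩
          exact htg i ▸ Ideal.mem_map_of_mem _ (htJ' i)
        obtain ⟨w, hw, hwx⟩ := (Ideal.mem_map_iff_of_surjective _ Ideal.Quotient.mk_surjective).1 hxm
        have h2 := inf_map_le ρ hρ σ hσ hc (maximalIdeal R)
          ⟨sub_mem hx (hle hw), (Ideal.Quotient.eq.1 hwx.symm)⟩
        have h3 : x - w ∈ J' ⊔ mT • RingHom.ker σ :=
          sup_le (hI'J'.trans le_sup_left) le_sup_right h2
        exact (sub_add_cancel x w) ▸ add_mem h3 (Submodule.mem_sup_left hw)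
    · rw [hdT, hdB]
      norm_cast at hda hdc ⊢
      omega

end Main

/-- Complete intersections along flat maps, complete case. -/
theorem isCI_iff_of_complete (A B : Type u) [CommRing A] [CommRing B] [IsLocalRing A] [IsLocalRing B]
    [IsNoetherianRing A] [IsNoetherianRing B] [IsAdicComplete (maximalIdeal A) A]
    [IsAdicComplete (maximalIdeal B) B] [Algebra A B] [IsLocalHom (algebraMap A B)] [Module.Flat A B]
    [IsLocalRing (B ⧸ (maximalIdeal A).map (algebraMap A B))] :
    Pi1.IsCompleteIntersection B ↔ Pi1.IsCompleteIntersection A ∧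
      Pi1.IsCompleteIntersection (B ⧸ (maximalIdeal A).map (algebraMap A B)) := by
  obtain ⟨R, T, _, _, _, _, _, ρ, σ, hρ, hσ, hc, _, _, _⟩ := exists_regular_presentation A B
  let π : T ⧸ (maximalIdeal R).map (algebraMap R T) →+* B ⧸ (maximalIdeal A).map (algebraMap A B) :=
    Ideal.quotientMap _ σ (Ideal.map_le_iff_le_comap.1 (le_of_eq (by
      rw [Ideal.map_map, hc, ← Ideal.map_map, IsLocalRing.map_maximalIdeal_of_surjective ρ hρ])))
  have hπ : Function.Surjective π := Ideal.quotientMap_surjective hσ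
  rw [CILib.isCompleteIntersection_iff_cutBy σ hσ, CILib.isCompleteIntersection_iff_cutBy ρ hρ,
    CILib.isCompleteIntersection_iff_cutBy π hπ]
  exact cutBy_iff_of_flat ρ σ hρ hσ hc π fun _ => rfl

end Groth.Agent.CIFlatLib

end
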