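import Groth.Agent.CIFlatLib.Basic

/-!
# Factorisations of complete intersection homomorphisms (Avramov)
-/

set_option autoImplicit false
set_option linter.style.haveILetI false
set_option backward.isDefEq.respectTransparency false

universe u

open CategoryTheory IsLocalRing RingTheory.Sequence
attribute [local instance] HasDerivedCategory.standard

noncomputable section

namespace Groth.Agent.CIFlatLib

/-- A complete intersection of finite flat dimension over `A` factors through a flat `A`-algebra with regular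
closed fibre by a regular sequence, and `A` is a complete intersection. -/
theorem exists_factor_of_tor (A B : Type u) [CommRing A] [CommRing B] [IsLocalRing A] [IsLocalRing B]
    [IsNoetherianRing A] [IsNoetherianRing B] [IsAdicComplete (maximalIdeal A) A]
    [IsAdicComplete (maximalIdeal B) B] [Algebra A B] [IsLocalHom (algebraMap A B)]
    (hB : Pi1.IsCompleteIntersection B)
    (hfin : Set.Finite {p : ℕ | ¬Subsingleton (DRing.Tor A p B (ResidueField A))}) :
    Pi1.IsCompleteIntersection A ∧
      ∃ (S : Type u) (_ : CommRing S) (_ : IsNoetherianRing S) (_ : IsLocalRing S) (_ : Algebra A S)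
        (_ : Module.Flat A S) (_ : IsRegularLocalRing (S ⧸ (maximalIdeal A).map (algebraMap A S)))
        (g : S →ₐ[A] B), Function.Surjective g ∧
          ∃ rs : List S, Ideal.ofList rs = RingHom.ker g ∧ IsRegular S rs := by
  obtain ⟨R, T, _, _, _, _, _, ρ, σ, hρ, hσ, hc, _, _, _⟩ := exists_regular_presentation A B
  let I := RingHom.ker ρ
  let J := RingHom.ker σ
  let I' := I.map (algebraMap R T)
  have hI : I ≠ ⊤ := RingHom.ker_ne_top ρ
  have hJ : J ≠ ⊤ := RingHom.ker_ne_top σ
  have hIJ : I' ≤ J := Ideal.map_le_iff_le_comap.2 fun r hr => by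
    show σ (algebraMap R T r) = 0
    rw [← RingHom.comp_apply, hc, RingHom.comp_apply, RingHom.mem_ker.1 hr, map_zero]
  let eA : R ⧸ I ≃+* A := RingHom.quotientKerEquivOfSurjective hρ
  haveI : IsLocalRing (T ⧸ I') := RegLocal.isLocalRing_quot (ne_top_of_le_ne_top hJ hIJ)
  let q : R ⧸ I →+* T ⧸ I' := algebraMap (R ⧸ I) (T ⧸ I')
  letI : Algebra A (T ⧸ I') := (q.comp eA.symm.toRingHom).toAlgebra
  haveI : Module.Flat A (T ⧸ I') := by
    haveI : Module.Flat (R ⧸ I) (T ⧸ I') := CancelLib.flat_quotient_map I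
    exact RingHom.flat_algebraMap_iff.1 (show (q.comp eA.symm.toRingHom).Flat from
      RingHom.Flat.comp (RingHom.Flat.of_bijective eA.symm.bijective) (RingHom.flat_algebraMap_iff.2 inferInstance))
  have halg : ∀ r, algebraMap A (T ⧸ I') (ρ r) = Ideal.Quotient.mk I' (algebraMap R T r) := fun r => by
    show q (eA.symm (ρ r)) = _
    rw [show ρ r = eA (Ideal.Quotient.mk I r) from rfl, RingEquiv.symm_apply_apply]
    rfl
  let g : T ⧸ I' →ₐ[A] B :=
    { Ideal.Quotient.lift I' σ fun t ht => hIJ ht with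
      commutes' := fun a => by
        obtain ⟨r, rfl⟩ := hρ a
        show Ideal.Quotient.lift I' σ _ (algebraMap A (T ⧸ I') (ρ r)) = _
        rw [halg, Ideal.Quotient.lift_mk]
        exact RingHom.congr_fun hc r }
  have hg : Function.Surjective g := fun b => by
    obtain ⟨t, rfl⟩ := hσ b
    exact ⟨Ideal.Quotient.mk I' t, rfl⟩
  letI : Algebra (T ⧸ I') B := g.toRingHom.toAlgebra
  haveI : IsScalarTower A (T ⧸ I') B := .of_algebraMap_eq fun a => (g.commutes a).symm
  haveI : Module.Finite (T ⧸ I') B := Module.Finite.of_surjective (Algebra.linearMap (T ⧸ I') B) hg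
  haveI : IsLocalHom (algebraMap A (T ⧸ I')) := ⟨fun x hx => by
    have h := hx.map g
    rw [g.commutes] at h
    exact (isUnit_map_iff (algebraMap A B) x).1 h⟩
  have hle : I' ≤ (maximalIdeal R).map (algebraMap R T) := Ideal.map_mono (le_maximalIdeal hI)
  have hfib : (maximalIdeal A).map (algebraMap A (T ⧸ I')) =
      ((maximalIdeal R).map (algebraMap R T)).map (Ideal.Quotient.mk I') := by
    haveI : IsLocalHom ρ := IsLocalHom.of_surjective _ hρ
    rw [← IsLocalRing.map_maximalIdeal_of_surjective ρ hρ, Ideal.map_map, Ideal.map_map]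
    exact congrArg (fun φ : R →+* T ⧸ I' => (maximalIdeal R).map φ) (RingHom.ext halg)
  haveI : IsRegularLocalRing ((T ⧸ I') ⧸ (maximalIdeal A).map (algebraMap A (T ⧸ I'))) :=
    IsRegularLocalRing.of_ringEquiv ((DoubleQuot.quotQuotEquivQuotOfLE hle).symm.trans (Ideal.quotEquivOfEq hfib.symm))
  obtain ⟨P, hP⟩ := hfin.bddAbove
  obtain ⟨N, hN⟩ := CancelLib.exists_pd_of_tor_residue (R := A) (S := T ⧸ I') P B
    fun p hp => by_contra fun h => absurd (hP h) (not_le.2 hp)
  have hkerg : RingHom.ker g.toRingHom = J.map (Ideal.Quotient.mk I') := Ideal.ker_quotient_lift σ _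
  let e : B ≃ₗ[T ⧸ I'] (T ⧸ I') ⧸ J.map (Ideal.Quotient.mk I') :=
    ((Submodule.quotEquivOfEq _ _ (show J.map (Ideal.Quotient.mk I') = LinearMap.ker (Algebra.linearMap (T ⧸ I') B) by
      rw [← hkerg]; rfl)).trans (LinearMap.quotKerEquivOfSurjective (Algebra.linearMap (T ⧸ I') B) hg)).symm
  haveI := hN
  have hpd : HasProjectiveDimensionLT (ModuleCat.of (T ⧸ I') ((T ⧸ I') ⧸ J.map (Ideal.Quotient.mk I'))) (N + 1) :=
    hasProjectiveDimensionLT_of_iso e.toModuleIso (N + 1)
  obtain ⟨ks, hks, hksJ⟩ := CILib.isRegular_of_cutBy σ hσ ((CILib.isCompleteIntersection_iff_cutBy σ hσ).1 hB)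
  obtain ⟨h1, rs, hrs, hrsJ⟩ :=
    CancelLib.isRegularIdeal_cancel hIJ (le_maximalIdeal hJ) ⟨ks, hks, hksJ.symm⟩ (N + 1) hpd
  obtain ⟨is, his, hisI⟩ := CancelLib.isRegularIdeal_of_flat hI h1
  exact ⟨(CILib.isCompleteIntersection_iff_cutBy ρ hρ).2 (CILib.cutBy_of_isRegular ρ hρ is his hisI.symm),
    T ⧸ I', inferInstance, inferInstance, inferInstance, inferInstance, inferInstance, inferInstance, g, hg,
    rs, hrsJ.trans hkerg.symm, hrs⟩

/-- The converse. -/
theorem isCI_of_factor {A B S : Type u} [CommRing A] [CommRing B] [CommRing S] [IsLocalRing A] [IsLocalRing B]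
    [IsLocalRing S] [IsNoetherianRing A] [IsNoetherianRing S] [Algebra A B] [IsLocalHom (algebraMap A B)]
    [Algebra A S] [Module.Flat A S] [IsRegularLocalRing (S ⧸ (maximalIdeal A).map (algebraMap A S))]
    (g : S →ₐ[A] B) (hg : Function.Surjective g) (rs : List S) (hrs : Ideal.ofList rs = RingHom.ker g)
    (hreg : IsRegular S rs) :
    (Pi1.IsCompleteIntersection A → Pi1.IsCompleteIntersection B) ∧
      Set.Finite {p : ℕ | ¬Subsingleton (DRing.Tor A p B (ResidueField A))} := by
  haveI : IsLocalHom (algebraMap A S) := ⟨fun x hx => by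
    have h := hx.map g
    rw [g.commutes] at h
    exact (isUnit_map_iff (algebraMap A B) x).1 h⟩
  refine ⟨fun hA => ?_, ?_⟩
  · have hS : Pi1.IsCompleteIntersection S :=
      (isCI_iff_of_flat A S).2 ⟨hA, isCI_of_isRegularLocalRing _⟩
    let e : S ⧸ Ideal.ofList rs ≃+* B :=
      (Ideal.quotEquivOfEq hrs).trans (RingHom.quotientKerEquivOfSurjective (f := g.toRingHom) hg)
    haveI := e.symm.isLocalRing
    exact (isCI_congr e).1 (isCI_quotient S hS rs hreg)
  · have htd : PerfMorLib.TD g.toRingHom :=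
      (PerfMorLib.perfHom_of_isWeaklyRegular rs.length g.toRingHom rs rfl hg hreg.toIsWeaklyRegular hrs.symm).2
    have h := (PerfMorLib.td_of_flat ((RingHom.flat_algebraMap_iff (R := A) (S := S)).mpr ‹_›)).comp htd
    erw [g.comp_algebraMap] at h
    obtain ⟨d, hd⟩ := PerfMorLib.hasFiniteTorDim_iff.2 h
    exact (Set.finite_le_nat d).subset fun p hp => le_of_not_gt fun hdp => hp (hd _ p hdp)

end Groth.Agent.CIFlatLib

end
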