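import Groth.Agent.CancelLib.Ring
import Groth.Agent.GorLib.TopHull
import Groth.Agent.GorLib.Ring

/-!
# Gorenstein rings from local complete intersection algebras
-/

set_option autoImplicit false
set_option linter.style.haveILetI false
set_option backward.isDefEq.respectTransparency false

universe u

open IsLocalRing

noncomputable section

namespace Groth.Agent.CIFlatLib

theorem gorensteinRing_mvPolynomial : ∀ (n : ℕ) (A : Type u) [CommRing A] [LocCoh.IsGorensteinRing A],
    LocCoh.IsGorensteinRing (MvPolynomial (Fin n) A)
  | 0, A, _, h => GorLib.gorensteinRing_of_ringEquiv (MvPolynomial.isEmptyRingEquiv A (Fin 0)).symm h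
  | n + 1, A, _, h =>
    haveI := gorensteinRing_mvPolynomial n A
    GorLib.gorensteinRing_of_ringEquiv (MvPolynomial.finSuccEquiv A n).toRingEquiv.symm
      (GorLib.gorensteinRing_polynomial (MvPolynomial (Fin n) A))

theorem gorensteinRing_of_isLCI (A B : Type u) [CommRing A] [CommRing B] [Algebra A B]
    [LocCoh.IsGorensteinRing A] (h : LCI.IsLCI A B) : LocCoh.IsGorensteinRing B := by
  obtain ⟨hft, n, φ, hφ, hK⟩ := h
  haveI : IsNoetherianRing B := Algebra.FiniteType.isNoetherianRing A B
  haveI := gorensteinRing_mvPolynomial n A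
  refine { isGorensteinLocalRing_localization := fun q _ => ?_ }
  let p := q.comap φ.toRingHom
  let π := Localization.localRingHom p q φ.toRingHom rfl
  have hπ : Function.Surjective π := CMGraded.localRingHom_surjective hφ _ _ rfl
  have hp : RingHom.ker φ.toRingHom ≤ p := fun x hx => by
    refine Ideal.mem_comap.2 ?_
    rw [RingHom.mem_ker.1 hx]; exact zero_mem _
  obtain ⟨rs, hrs, hrsI⟩ := CancelLib.isRegularIdeal_map_of_koszul hK p hp
  have hk : RingHom.ker π = Ideal.ofList rs := (CMGraded.ker_localRingHom (φ := φ.toRingHom) hφ _ _ rfl).trans hrsI.symm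
  haveI : IsNoetherianRing (Localization.AtPrime p) := IsLocalization.isNoetherianRing p.primeCompl _ inferInstance
  have h := GorLib.gorenstein_quot_seq rs.length (Localization.AtPrime p)
    (LocCoh.IsGorensteinRing.isGorensteinLocalRing_localization p) rs rfl
    (fun r hr => le_maximalIdeal (RingHom.ker_ne_top π) (hk ▸ Ideal.subset_span hr)) hrs.toIsWeaklyRegular
  exact GorLib.gorenstein_of_ringEquiv
    ((Ideal.quotEquivOfEq hk.symm).trans (RingHom.quotientKerEquivOfSurjective hπ)) h

end Groth.Agent.CIFlatLib

end
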