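import Groth.Agent.FlatSeqLib.FinPres
import Groth.Agent.FlatLocus.InjFlat
import Groth.Agent.CancelLib.Ring
import Groth.Agent.CILib.RegularImmersionFibre
import Groth.Agent.CMFlatLib.Fibre
import Groth.Agent.ASp.SmoothSyntomic

/-!
# Local complete intersection maps of flat finitely presented algebras, read on the fibres
-/

set_option autoImplicit false
set_option linter.style.haveILetI false
set_option backward.isDefEq.respectTransparency false
set_option maxHeartbeats 1000000

universe u

open IsLocalRing RingTheory.Sequence TensorProduct Pointwise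

namespace Groth.Agent.CIFlatLib

/-- Weak regularity does not see unit factors. -/
theorem isWeaklyRegular_of_unit_mul {R : Type u} [CommRing R] {ι : Type u} (x y : ι → R)
    (h : ∀ i, ∃ v, IsUnit v ∧ y i = v * x i) (l : List ι) :
    ∀ (M : Type u) [AddCommGroup M] [Module R M], IsWeaklyRegular M (l.map x) → IsWeaklyRegular M (l.map y) := by
  induction l with
  | nil => intros; exact IsWeaklyRegular.nil _ _
  | cons i l ih =>
    intro M _ _ hreg
    rw [List.map_cons, isWeaklyRegular_cons_iff] at hreg ⊢
    obtain ⟨v, hv, he⟩ := h i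
    refine ⟨fun a b hab => hreg.1 ?_, ?_⟩
    · have hab' : (v * x i) • a = (v * x i) • b := by rw [← he]; exact hab
      rw [mul_smul, mul_smul] at hab'
      exact hv.smul_left_cancel.1 hab'
    · have heq : (y i • ⊤ : Submodule R M) = x i • ⊤ := by
        rw [← Submodule.ideal_span_singleton_smul, ← Submodule.ideal_span_singleton_smul, he,
          Ideal.span_singleton_mul_left_unit hv]
      exact ((Submodule.quotEquivOfEq _ _ heq).isWeaklyRegular_congr _).2 (ih _ hreg.2)

/-- Around a prime where a sequence is regular on the fibre it is regular. -/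
theorem exists_open_isWeaklyRegular {R P : Type u} [CommRing R] [CommRing P] [Algebra R P]
    [Algebra.FinitePresentation R P] (q : Ideal P) [q.IsPrime] (ys : List P) :
    ∀ (M : Type u) [AddCommGroup M] [Module P M] [Module R M] [IsScalarTower R P M] [Module.FinitePresentation P M]
      [Module.Flat R (LocalizedModule q.primeCompl M)], (∀ b ∈ ys, b ∈ q) →
      IsWeaklyRegular (LocalizedModule q.primeCompl M ⧸ (((q.comap (algebraMap R P)).map (algebraMap R P)) • ⊤ :
        Submodule P (LocalizedModule q.primeCompl M))) ys →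
      ∃ U : Set (PrimeSpectrum P), IsOpen U ∧ (⟨q, inferInstance⟩ : PrimeSpectrum P) ∈ U ∧
        ∀ q' ∈ U, IsWeaklyRegular (LocalizedModule q'.asIdeal.primeCompl M) ys := by
  induction ys with
  | nil =>
    intro M _ _ _ _ _ _ _ _
    exact ⟨Set.univ, isOpen_univ, trivial, fun q' _ => IsWeaklyRegular.nil _ _⟩
  | cons g gs ih =>
    intro M _ _ _ _ _ _ hm h
    rw [isWeaklyRegular_cons_iff] at h
    obtain ⟨hreg, hfl⟩ := FlatSeqLib.isSMulRegular_and_flat_fp q M g (hm g List.mem_cons_self) h.1
    haveI := hfl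
    let I : Ideal P := Ideal.span {g}
    haveI : Module.FinitePresentation P (M ⧸ (I • ⊤ : Submodule P M)) :=
      Module.finitePresentation_of_surjective (Submodule.mkQ _) (Submodule.mkQ_surjective _)
        (by rw [Submodule.ker_mkQ]; exact Submodule.FG.smul (Submodule.fg_span_singleton g) Module.Finite.fg_top)
    obtain ⟨e₀⟩ := FlatSeqLib.nonempty_locQuot q.primeCompl I (M := M)
    let e := e₀.trans (FlatSeqLib.quotSMulTopEquiv g).symm
    haveI : Module.Flat R (LocalizedModule q.primeCompl (M ⧸ (I • ⊤ : Submodule P M))) :=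
      Module.Flat.of_linearEquiv (e.restrictScalars R)
    have hmap : ∀ J : Ideal P, Submodule.map e.toLinearMap (J • ⊤ : Submodule P _) = J • ⊤ := fun J => by
      rw [Submodule.map_smul'', Submodule.map_top, LinearEquiv.range]
    obtain ⟨U₂, hU₂, hqU₂, h₂⟩ := ih (M ⧸ (I • ⊤ : Submodule P M)) (fun b hb => hm b (List.mem_cons_of_mem _ hb))
      ((((Submodule.Quotient.equiv _ _ e (hmap _)).trans
        (FlatSeqLib.quotSMulTopQuotEquiv g _)).isWeaklyRegular_congr gs).2 h.2)
    let u : M →ₗ[P] M := LinearMap.lsmul P M g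
    have hu : LinearMap.range u = (I • ⊤ : Submodule P M) := by
      ext z
      simp [u, I, Submodule.ideal_span_singleton_smul, Submodule.mem_smul_pointwise_iff_exists]
    have hopen := FlatLocus.isOpen_injective_and_flat (R := R) (M' := M) u
    let T : Set (PrimeSpectrum P) := {q' | (∀ m, u m = 0 → ∃ s ∉ q'.asIdeal, s • m = 0) ∧
      Module.Flat R (LocalizedModule q'.asIdeal.primeCompl (M ⧸ LinearMap.range u))}
    refine ⟨T ∩ U₂, hopen.inter hU₂, ⟨⟨fun m hm0 => ?_, ?_⟩, hqU₂⟩, fun q' hq' => ?_⟩
    · have h1 : LocalizedModule.mkLinearMap q.primeCompl M m = 0 := hreg (by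
        show g • _ = g • 0
        rw [smul_zero, ← map_smul, show g • m = 0 from hm0, map_zero])
      obtain ⟨s, hs⟩ := (IsLocalizedModule.eq_zero_iff q.primeCompl _).1 h1
      exact ⟨s.1, s.2, hs⟩
    · exact Module.Flat.of_linearEquiv ((IsLocalizedModule.mapEquiv q.primeCompl
        (LocalizedModule.mkLinearMap q.primeCompl (M ⧸ LinearMap.range u))
        (LocalizedModule.mkLinearMap q.primeCompl (M ⧸ (I • ⊤ : Submodule P M)))
        (Localization q.primeCompl) (Submodule.quotEquivOfEq _ _ hu)).restrictScalars R)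
    · have hinj : IsSMulRegular (LocalizedModule q'.asIdeal.primeCompl M) g := by
        refine fun a b hab => sub_eq_zero.1 ?_
        have hab' : g • (a - b) = 0 := by rw [smul_sub]; exact sub_eq_zero.2 hab
        obtain ⟨⟨m, t⟩, ht⟩ := IsLocalizedModule.surj q'.asIdeal.primeCompl (LocalizedModule.mkLinearMap q'.asIdeal.primeCompl M) (a - b)
        have h1 : LocalizedModule.mkLinearMap q'.asIdeal.primeCompl M (g • m) = 0 := by
          rw [map_smul, ← ht, Submonoid.smul_def, smul_comm, hab', smul_zero]
        obtain ⟨c, hc⟩ := (IsLocalizedModule.eq_zero_iff q'.asIdeal.primeCompl _).1 h1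
        obtain ⟨s, hs, hsm⟩ := hq'.1.1 (c.1 • m) (by
          show g • c.1 • m = 0
          rw [smul_comm]; exact hc)
        refine IsLocalizedModule.smul_injective (LocalizedModule.mkLinearMap q'.asIdeal.primeCompl M)
          ((⟨s, hs⟩ : q'.asIdeal.primeCompl) * c * t) ?_
        show ((⟨s, hs⟩ : q'.asIdeal.primeCompl) * c * t) • (a - b) = ((⟨s, hs⟩ : q'.asIdeal.primeCompl) * c * t) • 0
        rw [smul_zero, mul_smul, ht, Submonoid.smul_def, ← map_smul, Submonoid.coe_mul, mul_smul, hsm, map_zero]
      obtain ⟨e₁⟩ := FlatSeqLib.nonempty_locQuot q'.asIdeal.primeCompl I (M := M)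
      exact (isWeaklyRegular_cons_iff _ _ _).2
        ⟨hinj, ((e₁.trans (FlatSeqLib.quotSMulTopEquiv g).symm).isWeaklyRegular_congr gs).1 (h₂ q' hq'.2)⟩

/-- A Koszul-regular ideal of a local ring is generated by a Koszul-regular sequence. -/
theorem exists_list_local {L : Type u} [CommRing L] [IsLocalRing L] {K : Ideal L} (hK : LCI.IsKoszulRegularIdeal K)
    (hKm : K ≤ maximalIdeal L) : ∃ l : List L, LCI.IsKoszulRegularSeq L l ∧ K = Ideal.ofList l := by
  obtain ⟨l, hl, hlK⟩ := CILib.exists_list_atPrime hK (maximalIdeal L) hKm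
  let w : L ≃ₐ[L] Localization.AtPrime (maximalIdeal L) := IsLocalization.atUnits L (maximalIdeal L).primeCompl
    fun x hx => IsLocalRing.notMem_maximalIdeal.1 hx
  letI : Algebra (Localization.AtPrime (maximalIdeal L)) L := w.symm.toRingEquiv.toRingHom.toAlgebra
  haveI : Module.Flat (Localization.AtPrime (maximalIdeal L)) L :=
    RingHom.flat_algebraMap_iff.1 (RingHom.Flat.of_bijective w.symm.bijective)
  refine ⟨_, RelDivLib.isKoszulRegularSeq_flat (S := L) hl, ?_⟩
  rw [← Ideal.map_ofList, ← hlK, Ideal.map_map]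
  conv_lhs => rw [← Ideal.map_id K]
  congr 1
  refine RingHom.ext fun x => ?_
  show x = w.symm (algebraMap L _ x)
  rw [AlgEquiv.commutes]
  rfl

theorem localRingHom_fibre {A B : Type u} [CommRing A] [CommRing B] [Algebra A B] (p : Ideal A) [p.IsPrime]
    (q : Ideal B) [q.IsPrime] [q.LiesOver p] (Q : Ideal (p.Fiber B)) [Q.IsPrime]
    (hQ : Q.comap (Algebra.TensorProduct.includeRight : B →ₐ[A] p.Fiber B).toRingHom = q) :
    Function.Surjective (Localization.localRingHom q Q
        (Algebra.TensorProduct.includeRight : B →ₐ[A] p.Fiber B).toRingHom hQ.symm) ∧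
      RingHom.ker (Localization.localRingHom q Q
        (Algebra.TensorProduct.includeRight : B →ₐ[A] p.Fiber B).toRingHom hQ.symm) =
          p.map (algebraMap A (Localization.AtPrime q)) := by
  let ι : B →+* p.Fiber B := (Algebra.TensorProduct.includeRight : B →ₐ[A] p.Fiber B).toRingHom
  let φ := Localization.localRingHom q Q ι hQ.symm
  have hone : ∀ a : A, ι (algebraMap A B a) = algebraMap A (p.Fiber B) a := fun a =>
    (Algebra.TensorProduct.includeRight : B →ₐ[A] p.Fiber B).commutes a
  have hunit : ∀ r ∉ p, IsUnit (algebraMap A (p.Fiber B) r) := fun r hr => by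
    rw [IsScalarTower.algebraMap_apply A p.ResidueField (p.Fiber B)]
    exact (Ne.isUnit (fun h => hr (Ideal.algebraMap_residueField_eq_zero.1 h))).map _
  have hnotq : ∀ r ∉ p, algebraMap A B r ∉ q := fun r hr h => hr ((q.over_def p).ge h)
  have hclear : ∀ z : p.Fiber B, ∃ r ∉ p, ∃ b : B, ι (algebraMap A B r) * z = ι b := fun z => by
    obtain ⟨r, hr, b, e⟩ := Ideal.Fiber.exists_smul_eq_one_tmul p z
    refine ⟨r, hr, b, ?_⟩
    rw [hone, ← Algebra.smul_def, e]
    rfl
  have hmemQ : ∀ b : B, ι b ∈ Q ↔ b ∈ q := fun b => by rw [← hQ]; rfl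
  have hsurj : Function.Surjective φ := fun z => by
    obtain ⟨x, ⟨s, hs⟩, rfl⟩ := IsLocalization.exists_mk'_eq Q.primeCompl z
    obtain ⟨r, hr, b, hb⟩ := hclear x
    obtain ⟨r', hr', b', hb'⟩ := hclear s
    have hb'q : b' ∉ q := fun h => by
      have h1 : ι (algebraMap A B r') * s ∈ Q := hb' ▸ (hmemQ b').2 h
      rcases Ideal.IsPrime.mem_or_mem inferInstance h1 with h2 | h2
      · exact hnotq r' hr' ((hmemQ _).1 h2)
      · exact hs h2
    refine ⟨IsLocalization.mk' _ (b * algebraMap A B r') (⟨b' * algebraMap A B r, fun h =>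
      ((inferInstance : q.IsPrime).mem_or_mem h).elim hb'q (hnotq r hr)⟩ : q.primeCompl), ?_⟩
    rw [Localization.localRingHom_mk']
    refine IsLocalization.mk'_eq_of_eq ?_
    show ι (b' * algebraMap A B r) * x = s * ι (b * algebraMap A B r')
    rw [map_mul, map_mul, ← hb, ← hb']
    ring
  have hker : RingHom.ker φ = p.map (algebraMap A (Localization.AtPrime q)) := by
    rw [IsScalarTower.algebraMap_eq A B (Localization.AtPrime q), ← Ideal.map_map]
    refine le_antisymm (fun z hz => ?_) (Ideal.map_le_iff_le_comap.2 (Ideal.map_le_iff_le_comap.2 fun a ha => ?_))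
    · obtain ⟨b, ⟨s, hs⟩, rfl⟩ := IsLocalization.exists_mk'_eq q.primeCompl z
      rw [RingHom.mem_ker, Localization.localRingHom_mk', IsLocalization.mk'_eq_zero_iff] at hz
      obtain ⟨⟨u, hu⟩, hu0⟩ := hz
      obtain ⟨r, hr, b', hb'⟩ := hclear u
      have hb'q : b' ∉ q := fun h => by
        have h1 : ι (algebraMap A B r) * u ∈ Q := hb' ▸ (hmemQ b').2 h
        rcases Ideal.IsPrime.mem_or_mem inferInstance h1 with h2 | h2
        · exact hnotq r hr ((hmemQ _).1 h2)
        · exact hu h2
      have h0 : ι (b' * b) = 0 := by rw [map_mul, ← hb', mul_assoc, hu0, mul_zero]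
      obtain ⟨r', hr', hmem⟩ := QFCoverLib.exists_mul_mem_of_tmul_eq_zero p (z := b' * b) h0
      rw [IsLocalization.mk'_mem_map_algebraMap_iff]
      exact ⟨algebraMap A B r' * b', fun h => ((inferInstance : q.IsPrime).mem_or_mem h).elim (hnotq r' hr') hb'q,
        by rw [mul_assoc]; exact hmem⟩
    · show φ (algebraMap B (Localization.AtPrime q) (algebraMap A B a)) = 0
      rw [Localization.localRingHom_to_map, hone, IsScalarTower.algebraMap_apply A p.ResidueField (p.Fiber B),
        Ideal.algebraMap_residueField_eq_zero.2 ha, map_zero, map_zero]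
  exact ⟨hsurj, hker⟩

theorem isKoszulRegularIdeal_ofList {A : Type u} [CommRing A] (l : List A) (h : LCI.IsKoszulRegularSeq A l) :
    LCI.IsKoszulRegularIdeal (Ideal.ofList l) :=
  CILib.isKoszulRegularIdeal_of_nearGen fun p _ _ => ⟨1, (Ideal.ne_top_iff_one p).1 (Ideal.IsPrime.ne_top ‹_›), l,
    fun L _ _ _ _ => ⟨RelDivLib.isKoszulRegularSeq_flat (S := L) h, Ideal.map_ofList _ _⟩⟩

theorem isLCI_self_smooth (A P : Type u) [CommRing A] [CommRing P] [Algebra A P] [Algebra.Smooth A P] :
    LCI.IsLCI A P := CILib.isLCI_of_isSyntomic (ASp.isSyntomic_of_smooth A P)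

variable {R A P B : Type u} [CommRing R] [CommRing A] [CommRing P] [CommRing B]
  [Algebra R A] [Algebra R P] [Algebra A P] [IsScalarTower R A P]
  [Algebra R B] [Algebra A B] [IsScalarTower R A B]
  [Algebra P B] [IsScalarTower A P B] [IsScalarTower R P B]
  [Algebra.FinitePresentation R P] [Module.Flat R P]
  [Algebra.FinitePresentation R B] [Module.Flat R B] [Algebra.Smooth A P]

/-- A map of flat finitely presented algebras is a complete intersection near a prime iff it is one on the fibre. -/
theorem exists_isLCI_away_iff (hs : Function.Surjective (algebraMap P B)) (p : Ideal R) [p.IsPrime]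
    (q : Ideal B) [q.IsPrime] (hp : q.comap (algebraMap R B) = p) (Q' : Ideal (p.Fiber P)) [Q'.IsPrime]
    (hQ' : Q'.comap (Algebra.TensorProduct.includeRight : P →ₐ[R] p.Fiber P).toRingHom = q.comap (algebraMap P B)) :
    (∃ g ∉ q, LCI.IsLCI A (Localization.Away g)) ↔
      CInt.IsRegularIdeal (((RingHom.ker (algebraMap P B)).map
        (Algebra.TensorProduct.includeRight : P →ₐ[R] p.Fiber P).toRingHom).map
          (algebraMap (p.Fiber P) (Localization.AtPrime Q'))) := by
  classical
  let Q := q.comap (algebraMap P B)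
  have hQp : Q.comap (algebraMap R P) = p := by
    rw [Ideal.comap_comap, ← IsScalarTower.algebraMap_eq, hp]
  haveI : Q.LiesOver p := ⟨hQp.symm⟩
  let I := RingHom.ker (algebraMap P B)
  let ι : P →+* p.Fiber P := (Algebra.TensorProduct.includeRight : P →ₐ[R] p.Fiber P).toRingHom
  let L := Localization.AtPrime Q
  let T := Localization.AtPrime Q'
  let K := I.map (algebraMap P L)
  have hIQ : I ≤ Q := fun x hx => by
    show algebraMap P B x ∈ q
    rw [RingHom.mem_ker.1 hx]; exact zero_mem _
  have hKm : K ≤ maximalIdeal L := (Ideal.map_mono hIQ).trans (Localization.AtPrime.map_eq_maximalIdeal (I := Q)).le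
  haveI : Algebra.FiniteType p.ResidueField (p.Fiber P) := inferInstance
  haveI : IsNoetherianRing (p.Fiber P) := Algebra.FiniteType.isNoetherianRing p.ResidueField _
  haveI : IsNoetherianRing T := IsLocalization.isNoetherianRing Q'.primeCompl _ inferInstance
  -- the fibre local ring
  let φ : L →+* T := Localization.localRingHom Q Q' ι hQ'.symm
  obtain ⟨hφs, hφk⟩ : Function.Surjective φ ∧ RingHom.ker φ = p.map (algebraMap R L) :=
    localRingHom_fibre p Q Q' hQ'
  let e : T ≃+* L ⧸ p.map (algebraMap R L) :=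
    ((Ideal.quotEquivOfEq hφk.symm).trans (RingHom.quotientKerEquivOfSurjective hφs)).symm
  have he : ∀ z : L, e.symm (Ideal.Quotient.mk _ z) = φ z := fun z => rfl
  have hKT : K.map φ = (I.map ι).map (algebraMap (p.Fiber P) T) := by
    rw [Ideal.map_map, Ideal.map_map]
    congr 1
    exact RingHom.ext fun x => Localization.localRingHom_to_map Q Q' ι hQ'.symm x
  haveI hflLK : Module.Flat R (L ⧸ K) :=
    CILib.flat_atPrime_quotient_map (IsScalarTower.toAlgHom R P B) hs q
  have hgoal : ((RingHom.ker (algebraMap P B)).map ι).map (algebraMap (p.Fiber P) T) = K.map φ := hKT.symm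
  show _ ↔ CInt.IsRegularIdeal (((RingHom.ker (algebraMap P B)).map ι).map (algebraMap (p.Fiber P) T))
  rw [hgoal]
  constructor
  · rintro ⟨g, hg, hlci⟩
    obtain ⟨g, rfl⟩ := hs g
    obtain ⟨_, _, hs', hk'⟩ := CILib.exists_away_quot (A := P) (C := B) hs g
    let Pg := Localization.Away g
    let Bg := Localization.Away (algebraMap P B g)
    haveI : IsScalarTower A Pg Bg := .of_algebraMap_eq fun a => by
      rw [IsScalarTower.algebraMap_apply A P Pg, ← IsScalarTower.algebraMap_apply P Pg Bg,
        IsScalarTower.algebraMap_apply P B Bg, ← IsScalarTower.algebraMap_apply A P B,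
        ← IsScalarTower.algebraMap_apply A B Bg]
    haveI : Algebra.Smooth P Pg := ⟨Algebra.FormallySmooth.of_isLocalization (Submonoid.powers g),
      IsLocalization.Away.finitePresentation g⟩
    haveI : Algebra.Smooth A Pg := Algebra.Smooth.comp A P Pg
    have hK1 := CILib.isKoszulRegularIdeal_of_isLCI_surjective (CILib.isLCI_of_smooth (A := A) (B := Pg) (C := Bg) hlci) hs'
    have hgu : IsUnit (algebraMap P L g) := IsLocalization.map_units L (⟨g, hg⟩ : Q.primeCompl)
    letI : Algebra Pg L := (IsLocalization.Away.lift g hgu).toAlgebra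
    haveI : IsScalarTower P Pg L := .of_algebraMap_eq fun x => (IsLocalization.Away.lift_eq g hgu x).symm
    haveI : IsLocalization (Q.primeCompl.map (algebraMap P Pg)) L :=
      IsLocalization.isLocalization_of_submonoid_le Pg _ (Submonoid.powers g) Q.primeCompl (by
        rintro _ ⟨m, rfl⟩ hm
        exact hg ((‹q.IsPrime›).mem_of_pow_mem m (by
          show algebraMap P B g ^ m ∈ q
          rw [← map_pow]; exact hm)))
    haveI : Module.Flat Pg L := IsLocalization.flat _ (Q.primeCompl.map (algebraMap P Pg))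
    have hK2 := CILib.isKoszulRegularIdeal_map_flat (A' := L) hK1
    rw [hk', Ideal.map_map, ← IsScalarTower.algebraMap_eq] at hK2
    obtain ⟨l, hl, hlK⟩ := exists_list_local hK2 hKm
    obtain ⟨rs, hrs, hrsK⟩ := CILib.exists_regular_of_flat (T := T) p l hl K hlK hKm e
    have h1 : Ideal.ofList rs = K.map φ := by
      rw [hrsK, Ideal.map_map]
      congr 1
    refine ⟨rs, ⟨hrs, fun h => ?_⟩, h1⟩
    rw [smul_eq_mul, Ideal.mul_top, h1] at h
    haveI : IsLocalHom φ := Localization.isLocalHom_localRingHom Q Q' ι hQ'.symm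
    exact (ne_top_of_le_ne_top (maximalIdeal.isMaximal T).ne_top
      ((Ideal.map_mono hKm).trans (IsLocalRing.map_maximalIdeal_le φ))) h.symm
  · rintro ⟨rs, hrs, hrsK⟩
    have hsel : ∀ r : T, ∃ x : P, r ∈ rs → x ∈ I ∧ ∃ v, IsUnit v ∧ φ (algebraMap P L x) = v * r := by
      intro r
      by_cases hr : r ∈ rs
      · obtain ⟨z, hz, hzr⟩ := (Ideal.mem_map_iff_of_surjective φ hφs).1 (show r ∈ K.map φ by rw [← hrsK]; exact Ideal.subset_span hr)
        obtain ⟨⟨x, s⟩, hx⟩ := (IsLocalization.mem_map_algebraMap_iff Q.primeCompl L).1 hz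
        exact ⟨x.1, fun _ => ⟨x.2, φ (algebraMap P L s.1), (IsLocalization.map_units L s).map φ, by
          rw [← hx, map_mul, hzr, mul_comm]⟩⟩
      · exact ⟨0, fun h => absurd h hr⟩
    choose num hnum using hsel
    let ys := rs.map num
    have hysI : ∀ y ∈ ys, y ∈ I := fun y hy => by
      obtain ⟨r, hr, rfl⟩ := List.mem_map.1 hy
      exact (hnum r hr).1
    let ψ : P →+* T := φ.comp (algebraMap P L)
    have hysreg : IsWeaklyRegular T (ys.map ψ) := by
      have key := isWeaklyRegular_of_unit_mul (R := T) (ι := {r // r ∈ rs}) (fun r => r.1) (fun r => ψ (num r.1))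
        (fun r => (hnum r.1 r.2).2) rs.attach T (by simpa using hrs.toIsWeaklyRegular)
      simpa [ys, List.map_map, Function.comp_def] using key
    -- regularity on the fibre of the localised module
    haveI : Module.Flat R (LocalizedModule Q.primeCompl P) := by
      haveI : Module.Flat P (LocalizedModule Q.primeCompl P) :=
        Module.Flat.of_linearEquiv (IsLocalizedModule.iso Q.primeCompl (Algebra.linearMap P L))
      exact Module.Flat.trans R P _
    have hreg : IsWeaklyRegular (LocalizedModule Q.primeCompl P ⧸ (((Q.comap (algebraMap R P)).map (algebraMap R P)) • ⊤ :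
        Submodule P (LocalizedModule Q.primeCompl P))) ys := by
      let l₀ := IsLocalizedModule.iso Q.primeCompl (Algebra.linearMap P L)
      let l₁ := Submodule.Quotient.equiv (((Q.comap (algebraMap R P)).map (algebraMap R P)) • ⊤ : Submodule P _)
        ((p.map (algebraMap R L)).restrictScalars P) l₀ (by
          rw [Submodule.map_smul'', Submodule.map_top, LinearEquiv.range, Ideal.smul_top_eq_map, Ideal.map_map,
            ← IsScalarTower.algebraMap_eq, hQp])
      let l₂ := l₁.trans (Submodule.Quotient.restrictScalarsEquiv P (p.map (algebraMap R L)))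
      let E := l₂.toAddEquiv.trans e.symm.toAddEquiv
      have hE : ∀ (a : P) (z), E (a • z) = ψ a * E z := fun a z => by
        show e.symm (l₂ (a • z)) = ψ a * e.symm (l₂ z)
        rw [map_smul]
        obtain ⟨w, hw⟩ := Ideal.Quotient.mk_surjective (l₂ z)
        rw [← hw]
        show e.symm (Ideal.Quotient.mk _ (a • w)) = _
        rw [he, he, Algebra.smul_def, map_mul]
        rfl
      refine (E.isWeaklyRegular_congr (as := ys) (bs := ys.map ψ) ?_).2 hysreg
      rw [List.forall₂_map_right_iff]
      exact List.forall₂_same.2 fun a _ z => hE a z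
    obtain ⟨U, hU, hQU, hUreg⟩ := exists_open_isWeaklyRegular (R := R) Q ys P (fun y hy => hIQ (hysI y hy)) hreg
    obtain ⟨_, ⟨h, rfl⟩, hhQ, hhU⟩ := PrimeSpectrum.isTopologicalBasis_basic_opens.exists_subset_of_mem_open hQU hU
    -- the sequence generates
    haveI : Algebra.FiniteType R P := inferInstance
    have hIfg : I.FG := Algebra.FinitePresentation.ker_fG_of_surjective (IsScalarTower.toAlgHom R P B) hs
    let J := Ideal.ofList (ys.map (algebraMap P L))
    have hJK : J ≤ K := by
      rw [show J = (Ideal.ofList ys).map (algebraMap P L) from (Ideal.map_ofList _ _).symm]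
      exact Ideal.map_mono (Ideal.span_le.2 hysI)
    have hKJ : K ≤ J := by
      let Rp := Localization.AtPrime p
      letI : Algebra Rp L := Localization.AtPrime.algebraOfLiesOver p Q
      haveI : IsLocalHom (algebraMap Rp L) := Localization.isLocalHom_localRingHom p Q (algebraMap R P) hQp.symm
      haveI : Module.Flat Rp (L ⧸ K) := (Module.flat_iff_of_isLocalization Rp p.primeCompl _).2 hflLK
      refine CILib.le_of_le_sup_of_flat_quotient (A := Rp) K J (hIfg.map _) hJK ?_
      rw [← Localization.AtPrime.map_eq_maximalIdeal (I := p), Ideal.map_map, ← IsScalarTower.algebraMap_eq, ← hφk,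
        ← Ideal.comap_map_of_surjective' φ hφs, ← Ideal.map_le_iff_le_comap, ← hrsK]
      refine Ideal.span_le.2 fun r hr => ?_
      obtain ⟨-, v, hv, hve⟩ := hnum r hr
      rw [SetLike.mem_coe, ← Ideal.unit_mul_mem_iff_mem _ hv, ← hve]
      exact Ideal.mem_map_of_mem φ (Ideal.subset_span (List.mem_map_of_mem (List.mem_map_of_mem hr)))
    obtain ⟨c, hc, hcI⟩ := CILib.exists_mul_mem_of_fg (J := Ideal.ofList ys) hIfg Q fun x hx => by
      refine CILib.exists_mul_mem_of_localization (M := Q.primeCompl) (L := L) ?_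
      rw [Ideal.map_ofList]
      exact hKJ (Ideal.mem_map_of_mem _ hx)
    let G := h * c
    have hGQ : G ∉ Q := fun hm => (Ideal.IsPrime.mem_or_mem inferInstance hm).elim hhQ hc
    let PG := Localization.Away G
    have hseq : LCI.IsKoszulRegularSeq PG (ys.map (algebraMap P PG)) :=
      CILib.isKoszulRegularSeq_away G ys fun r _ _ hGr => by
        have h1 := hUreg ⟨r, inferInstance⟩ (hhU (fun hm => hGr (Ideal.mul_mem_right _ _ hm)))
        have h2 := ((IsLocalizedModule.iso r.primeCompl (Algebra.linearMap P (Localization.AtPrime r))).isWeaklyRegular_congr ys).1 h1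
        exact (isWeaklyRegular_map_algebraMap_iff (Localization.AtPrime r) (Localization.AtPrime r) ys).2 h2
    have hIG : I.map (algebraMap P PG) = Ideal.ofList (ys.map (algebraMap P PG)) := by
      rw [← Ideal.map_ofList]
      refine le_antisymm (Ideal.map_le_iff_le_comap.2 fun x hx => ?_) (Ideal.map_mono (Ideal.span_le.2 hysI))
      have hcu : IsUnit (algebraMap P PG c) := isUnit_of_mul_isUnit_right (by
        rw [← map_mul]; exact IsLocalization.Away.algebraMap_isUnit G)
      rw [Ideal.mem_comap, ← Ideal.unit_mul_mem_iff_mem _ hcu, ← map_mul]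
      exact Ideal.mem_map_of_mem _ (hcI x hx)
    obtain ⟨_, _, hs', hk'⟩ := CILib.exists_away_quot (A := P) (C := B) hs G
    let BG := Localization.Away (algebraMap P B G)
    haveI : IsScalarTower A PG BG := .of_algebraMap_eq fun a => by
      rw [IsScalarTower.algebraMap_apply A P PG, ← IsScalarTower.algebraMap_apply P PG BG,
        IsScalarTower.algebraMap_apply P B BG, ← IsScalarTower.algebraMap_apply A P B,
        ← IsScalarTower.algebraMap_apply A B BG]
    refine ⟨algebraMap P B G, hGQ, CILib.isLCI_trans (CILib.isLCI_trans (isLCI_self_smooth A P) (CILib.isLCI_away G PG))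
      (CILib.isLCI_of_surjective hs' ?_)⟩
    rw [hk', hIG]
    exact isKoszulRegularIdeal_ofList _ hseq

end Groth.Agent.CIFlatLib
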