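import Groth.Agent.CIFlatLib.Basic
import Groth.Agent.GorLib.Ring

/-! Rings whose local rings are complete intersections: flat maps, polynomial rings, field extensions. -/

set_option autoImplicit false
universe u

open IsLocalRing TensorProduct

namespace Groth.Agent.CIFlatLib

/-- A Noetherian ring all of whose local rings are complete intersections. -/
def CIRing (R : Type u) [CommRing R] : Prop :=
  IsNoetherianRing R ∧ ∀ (p : Ideal R) [p.IsPrime], Pi1.IsCompleteIntersection (Localization.AtPrime p)

theorem ciRing_of_regular (R : Type u) [CommRing R] [IsRegularRing R] : CIRing R := by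
  refine ⟨inferInstance, fun p _ => ?_⟩
  haveI := isRegularRing_iff.mp ‹IsRegularRing R› p
  exact isCI_of_isRegularLocalRing _

theorem ciRing_of_ringEquiv {R S : Type u} [CommRing R] [CommRing S] (e : R ≃+* S) (h : CIRing R) : CIRing S := by
  haveI := h.1
  refine ⟨isNoetherianRing_of_ringEquiv R e, fun P _ => ?_⟩
  exact (isCI_congr (Localization.localRingEquiv (P.comap e.toRingHom) P e rfl)).1 (h.2 _)

theorem ciRing_of_isLocalization {R : Type u} [CommRing R] (hR : CIRing R) (M : Submonoid R)
    (S : Type u) [CommRing S] [Algebra R S] [IsLocalization M S] : CIRing S := by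
  refine ⟨IsLocalization.isNoetherianRing M S hR.1, fun P _ => ?_⟩
  haveI : IsLocalization.AtPrime (Localization.AtPrime P) (P.comap (algebraMap R S)) :=
    IsLocalization.isLocalization_isLocalization_atPrime_isLocalization M _ P
  exact (isCI_congr (IsLocalization.algEquiv (P.comap (algebraMap R S)).primeCompl
    (Localization.AtPrime (P.comap (algebraMap R S))) (Localization.AtPrime P)).toRingEquiv).1 (hR.2 _)

section Flat

variable {R S : Type u} [CommRing R] [CommRing S] [Algebra R S] [IsNoetherianRing R] [IsNoetherianRing S] [Module.Flat R S]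

/-- At a prime of the fibre over `p`, with image `r` in `S`. -/
theorem isCI_fiber_iff (p : Ideal R) [p.IsPrime] (q : Ideal (p.Fiber S)) [q.IsPrime]
    (r : Ideal S) [r.IsPrime] (hr : r = q.comap Algebra.TensorProduct.includeRight) :
    Pi1.IsCompleteIntersection (Localization.AtPrime r) ↔
      Pi1.IsCompleteIntersection (Localization.AtPrime p) ∧ Pi1.IsCompleteIntersection (Localization.AtPrime q) := by
  subst hr
  haveI hlo : (q.comap (Algebra.TensorProduct.includeRight : S →ₐ[R] p.Fiber S)).LiesOver p := by
    refine ⟨(Ideal.over_def q p).trans ?_⟩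
    ext x
    simp only [Ideal.under_def, Ideal.mem_comap, AlgHom.commutes]
  letI := Localization.AtPrime.algebraOfLiesOver p (q.comap (Algebra.TensorProduct.includeRight : S →ₐ[R] p.Fiber S))
  haveI : Localization.AtPrime.IsLiesOverAlgebra p (q.comap (Algebra.TensorProduct.includeRight : S →ₐ[R] p.Fiber S)) := ⟨rfl⟩
  haveI : IsLocalHom (algebraMap (Localization.AtPrime p)
      (Localization.AtPrime (q.comap (Algebra.TensorProduct.includeRight : S →ₐ[R] p.Fiber S)))) := by
    rw [Localization.AtPrime.IsLiesOverAlgebra.algebraMap_eq]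
    infer_instance
  have e1 : (maximalIdeal (Localization.AtPrime p)).map (algebraMap (Localization.AtPrime p)
      (Localization.AtPrime (q.comap (Algebra.TensorProduct.includeRight : S →ₐ[R] p.Fiber S)))) =
      p.map (algebraMap R _) := by
    rw [← Localization.AtPrime.map_eq_maximalIdeal, Ideal.map_map, ← IsScalarTower.algebraMap_eq]
  let e := (Ideal.quotEquivOfEq e1).trans (Ideal.Fiber.localizationAlgEquivQuotient p q).toRingEquiv.symm
  haveI : IsLocalRing (Localization.AtPrime (q.comap (Algebra.TensorProduct.includeRight : S →ₐ[R] p.Fiber S)) ⧸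
      (maximalIdeal (Localization.AtPrime p)).map (algebraMap (Localization.AtPrime p)
        (Localization.AtPrime (q.comap (Algebra.TensorProduct.includeRight : S →ₐ[R] p.Fiber S))))) :=
    e.symm.isLocalRing
  exact (isCI_iff_of_flat (Localization.AtPrime p)
    (Localization.AtPrime (q.comap (Algebra.TensorProduct.includeRight : S →ₐ[R] p.Fiber S)))).trans
    (and_congr_right fun _ => isCI_congr e)

/-- A flat algebra with complete intersection base and fibres. -/
theorem ciRing_of_flat_fibres (hR : ∀ P : Ideal S, ∀ _ : P.IsPrime,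
      Pi1.IsCompleteIntersection (Localization.AtPrime (P.under R)))
    (hF : ∀ (p : Ideal R) [p.IsPrime], CIRing (p.Fiber S)) : CIRing S := by
  refine ⟨inferInstance, fun P _ => ?_⟩
  let Q := PrimeSpectrum.primesOverOrderIsoFiber R S (P.under R) ⟨P, ⟨inferInstance, ⟨rfl⟩⟩⟩
  have hQ : P = Q.asIdeal.comap Algebra.TensorProduct.includeRight := by
    have := PrimeSpectrum.coe_primesOverOrderIsoFiber_symm_apply (R := R) (S := S) (P.under R) Q
    rw [OrderIso.symm_apply_apply] at this
    exact this
  exact (isCI_fiber_iff (P.under R) Q.asIdeal P hQ).mpr ⟨hR P inferInstance, (hF (P.under R)).2 _⟩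

end Flat

theorem ciRing_polynomial {R : Type u} [CommRing R] (hR : CIRing R) : CIRing (Polynomial R) := by
  haveI := hR.1
  refine ciRing_of_flat_fibres (R := R) (fun P _ => hR.2 _) fun p _ => ?_
  exact ciRing_of_ringEquiv (polyEquivTensor R p.ResidueField).toRingEquiv (ciRing_of_regular _)

theorem ciRing_quot {R : Type u} [CommRing R] (hR : CIRing R) (f : R)
    (hf : IsSMulRegular R f) : CIRing (R ⧸ Ideal.span ({f} : Set R)) := by
  haveI := hR.1
  refine ⟨inferInstance, fun P _ => ?_⟩
  let p := P.comap (Ideal.Quotient.mk (Ideal.span ({f} : Set R)))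
  haveI : P.LiesOver p := ⟨rfl⟩
  have hfp : f ∈ p := by
    show Ideal.Quotient.mk _ f ∈ P
    rw [Ideal.Quotient.eq_zero_iff_mem.mpr (Ideal.mem_span_singleton_self f)]
    exact P.zero_mem
  let Rp := Localization.AtPrime p
  have hfm : algebraMap R Rp f ∈ maximalIdeal Rp := by
    rw [← Localization.AtPrime.map_eq_maximalIdeal]; exact Ideal.mem_map_of_mem _ hfp
  have hle : Ideal.ofList [algebraMap R Rp f] ≤ maximalIdeal Rp := by
    rw [Ideal.ofList_singleton, Ideal.span_singleton_le_iff_mem]; exact hfm
  have hreg : RingTheory.Sequence.IsRegular Rp [algebraMap R Rp f] := by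
    refine ⟨(RingTheory.Sequence.isWeaklyRegular_singleton_iff Rp _).2 (hf.of_isLocalization Rp p.primeCompl), fun h => ?_⟩
    rw [smul_eq_mul, Ideal.mul_top] at h
    exact (maximalIdeal.isMaximal Rp).ne_top (top_le_iff.1 (h.le.trans hle))
  haveI : IsLocalRing (Rp ⧸ Ideal.ofList [algebraMap R Rp f]) := by
    haveI : Nontrivial (Rp ⧸ Ideal.ofList [algebraMap R Rp f]) :=
      Ideal.Quotient.nontrivial_iff.2 fun h => (maximalIdeal.isMaximal Rp).ne_top (top_le_iff.1 (h ▸ hle))
    exact IsLocalRing.of_surjective' (Ideal.Quotient.mk _) Ideal.Quotient.mk_surjective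
  have hG := isCI_quotient Rp (hR.2 p) _ hreg
  have hmap : Ideal.ofList [algebraMap R Rp f] = (Ideal.span ({f} : Set R)).map (algebraMap R Rp) := by
    rw [Ideal.map_span, Set.image_singleton, Ideal.ofList_singleton]
  have hsub : Algebra.algebraMapSubmonoid (R ⧸ Ideal.span ({f} : Set R)) p.primeCompl = P.primeCompl :=
    Ideal.algebraMapSubmonoid_primeCompl_of_liesOver_surjective P p Ideal.Quotient.mk_surjective
  haveI : IsLocalization (Algebra.algebraMapSubmonoid (R ⧸ Ideal.span ({f} : Set R)) p.primeCompl)
      (Localization.AtPrime P) := by rw [hsub]; infer_instance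
  exact (isCI_congr ((Ideal.quotEquivOfEq hmap).trans
    (IsLocalization.algEquiv (Algebra.algebraMapSubmonoid (R ⧸ Ideal.span ({f} : Set R)) p.primeCompl)
      _ (Localization.AtPrime P)).toRingEquiv)).1 hG

theorem ciRing_ratFunc (k : Type u) [Field k] {R : Type u} [CommRing R] [Algebra k R]
    (hR : CIRing R) : CIRing (R ⊗[k] RatFunc k) := by
  let incl : Polynomial k →ₐ[k] RatFunc k := IsScalarTower.toAlgHom k (Polynomial k) (RatFunc k)
  let g : R ⊗[k] Polynomial k →ₐ[R] R ⊗[k] RatFunc k := Algebra.TensorProduct.map (AlgHom.id R R) incl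
  letI : Algebra (R ⊗[k] Polynomial k) (R ⊗[k] RatFunc k) := g.toRingHom.toAlgebra
  haveI : IsScalarTower R (R ⊗[k] Polynomial k) (R ⊗[k] RatFunc k) :=
    IsScalarTower.of_algebraMap_eq fun r => (g.commutes r).symm
  haveI := IsLocalization.tensorProduct_tensorProduct_right k R (A := Polynomial k) (nonZeroDivisors (Polynomial k))
    (RatFunc k) (by
      refine RingHom.ext fun a => ?_
      show g (1 ⊗ₜ[k] a) = 1 ⊗ₜ[k] algebraMap (Polynomial k) (RatFunc k) a
      simp [g, incl])
  exact ciRing_of_isLocalization (ciRing_of_ringEquiv (polyEquivTensor k R).toRingEquiv (ciRing_polynomial hR))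
    ((nonZeroDivisors (Polynomial k)).map (Algebra.TensorProduct.includeRight (R := k) (A := R))) _

theorem ciRing_adjoinRoot (k : Type u) [Field k] {R : Type u} [CommRing R] [Algebra k R]
    (hR : CIRing R) (p : Polynomial k) (hp : p.Monic) : CIRing (R ⊗[k] AdjoinRoot p) := by
  have h1 : CIRing (R ⊗[k] k) := ciRing_of_ringEquiv (Algebra.TensorProduct.rid k R R).symm.toRingEquiv hR
  let q := p.map (Algebra.TensorProduct.includeRight (R := k) (A := R) (B := k)).toRingHom
  have hq : q.Monic := hp.map _
  have hreg : IsSMulRegular (Polynomial (R ⊗[k] k)) q := fun a b hab => hq.isRegular.left hab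
  exact ciRing_of_ringEquiv (AdjoinRoot.tensorAlgEquiv (R := k) (T := R) p q rfl).toRingEquiv.symm
    (ciRing_quot (ciRing_polynomial h1) q hreg)

theorem ciRing_simple (L K : Type u) [Field L] [Field K] [Algebra L K] (x : K) {R : Type u} [CommRing R]
    [Algebra L R] (hR : CIRing R) : CIRing (R ⊗[L] IntermediateField.adjoin L ({x} : Set K)) := by
  by_cases hx : IsIntegral L x
  · exact ciRing_of_ringEquiv
      (Algebra.TensorProduct.congr (AlgEquiv.refl (A₁ := R) (R := L))
        (IntermediateField.adjoinRootEquivAdjoin L hx)).toRingEquiv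
      (ciRing_adjoinRoot L hR (minpoly L x) (minpoly.monic hx))
  · have ht : Transcendental L x := fun ha => hx ha.isIntegral
    exact ciRing_of_ringEquiv
      (Algebra.TensorProduct.congr (AlgEquiv.refl (A₁ := R) (R := L))
        (RatFunc.algEquivOfTranscendental x ht)).toRingEquiv
      (ciRing_ratFunc L hR)

theorem ciRing_baseChange (k K : Type u) [Field k] [Field K] [Algebra k K]
    (hK : ∃ s : Finset K, IntermediateField.adjoin k (s : Set K) = ⊤) {R : Type u} [CommRing R] [Algebra k R]
    (hR : CIRing R) : CIRing (K ⊗[k] R) := by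
  obtain ⟨s, hs⟩ := hK
  have key : ∀ L : IntermediateField k K, L.FG → ∀ {R : Type u} [CommRing R] [Algebra k R], CIRing R →
      CIRing (L ⊗[k] R) := by
    refine IntermediateField.induction_on_adjoin_fg (fun L : IntermediateField k K => ∀ {R : Type u} [CommRing R]
      [Algebra k R], CIRing R → CIRing (L ⊗[k] R)) ?_ ?_
    · intro R _ _ hR
      exact ciRing_of_ringEquiv ((Algebra.TensorProduct.congr (IntermediateField.botEquiv k K)
        (AlgEquiv.refl (A₁ := R) (R := k))).trans (Algebra.TensorProduct.lid k R)).symm.toRingEquiv hR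
    · intro L x ih R _ _ hR
      exact ciRing_of_ringEquiv
        ((Algebra.TensorProduct.comm L (L ⊗[k] R) (IntermediateField.adjoin L ({x} : Set K))).toRingEquiv.trans
          (Algebra.TensorProduct.cancelBaseChange k L L (IntermediateField.adjoin L ({x} : Set K)) R).toRingEquiv)
        (ciRing_simple L K x (ih hR))
  exact ciRing_of_ringEquiv
    (Algebra.TensorProduct.congr ((IntermediateField.equivOfEq hs).trans IntermediateField.topEquiv)
      (AlgEquiv.refl (A₁ := R) (R := k))).toRingEquiv
    (key _ (IntermediateField.fg_adjoin_finset s) hR)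

/-- Complete intersection fibres are preserved by composing with a regular map. -/
theorem ciRing_fibre_comp (A B C : Type u) [CommRing A] [CommRing B] [CommRing C] [IsNoetherianRing B]
    [IsNoetherianRing C] [Algebra A B] [Algebra B C] [Algebra A C] [IsScalarTower A B C] [Module.Flat B C]
    (hBC : CAlg.IsRegularHom B C) (q : Ideal A) [q.IsPrime]
    (hq : CIRing (q.Fiber B)) : CIRing (q.Fiber C) := by
  let B' := B ⊗[A] q.ResidueField
  have hB' : CIRing B' := ciRing_of_ringEquiv (Algebra.TensorProduct.comm A q.ResidueField B).toRingEquiv hq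
  haveI := hB'.1
  let C' := B' ⊗[B] C
  let eC : C' ≃+* q.Fiber C :=
    ((Algebra.TensorProduct.comm B B' C).toRingEquiv.trans
      (Algebra.TensorProduct.cancelBaseChange A B B C q.ResidueField).toRingEquiv).trans
      (Algebra.TensorProduct.comm A C q.ResidueField).toRingEquiv
  haveI : IsNoetherianRing C' := by
    haveI : IsNoetherianRing (C ⊗[A] q.ResidueField) := Algebra.EssFiniteType.isNoetherianRing C _
    exact isNoetherianRing_of_ringEquiv _
      ((Algebra.TensorProduct.comm A C q.ResidueField).toRingEquiv.trans eC.symm)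
  refine ciRing_of_ringEquiv eC ?_
  refine ciRing_of_flat_fibres (R := B') (fun P _ => hB'.2 _) fun P' _ => ?_
  let P : Ideal B := P'.comap (algebraMap B B')
  letI : Algebra P.ResidueField P'.ResidueField :=
    (Ideal.ResidueField.map P P' (algebraMap B B') rfl).toAlgebra
  haveI : IsScalarTower B P.ResidueField P'.ResidueField := IsScalarTower.of_algebraMap_eq fun b => by
    show algebraMap B P'.ResidueField b =
      Ideal.ResidueField.map P P' (algebraMap B B') rfl (algebraMap B P.ResidueField b)
    rw [Ideal.ResidueField.map_algebraMap]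
    exact IsScalarTower.algebraMap_apply B B' P'.ResidueField b
  haveI : Module.Finite P.ResidueField P'.ResidueField :=
    Module.Finite.of_surjective (Algebra.linearMap P.ResidueField P'.ResidueField)
      ((q.surjectiveOnStalks_residueField.baseChange (S := B)).residueFieldMap_bijective P P' rfl).2
  haveI : IsRegularRing (P'.ResidueField ⊗[P.ResidueField] P.Fiber C) := (hBC.2 P).2 P'.ResidueField inferInstance
  exact ciRing_of_ringEquiv
    ((Algebra.TensorProduct.cancelBaseChange B P.ResidueField P.ResidueField P'.ResidueField C).toRingEquiv.trans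
      (Algebra.TensorProduct.cancelBaseChange B B' B' P'.ResidueField C).toRingEquiv.symm)
    (ciRing_of_regular _)

end Groth.Agent.CIFlatLib
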